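import Cfsg.Agent.Lib.UniqueSubgroup
import Cfsg.Agent.Lib.Elementary

/-! Finite `2`-groups with exactly one involution: elements of order four. -/

set_option autoImplicit false

namespace CfsgLib.TwoCompFour

universe u

open Subgroup

/-- `z` is the only involution of the group `P`. -/
def UniqInv {P : Type u} [Group P] (z : P) : Prop :=
  orderOf z = 2 ∧ ∀ x : P, orderOf x = 2 → x = z

variable {P : Type u} [Group P] [Finite P] {z : P}

theorem exists_quat (hP : IsPGroup 2 P) (hz : UniqInv z) (hnc : ¬ IsCyclic P) :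
    ∃ n : ℕ, 1 ≤ n ∧ Nonempty (P ≃* QuaternionGroup (2 ^ n)) := by
  have huniq : ∀ x : P, x ^ 2 = 1 → x ∈ zpowers z := fun x hx => by
    rcases eq_or_ne x 1 with rfl | h1
    · exact one_mem _
    · rw [hz.2 x (orderOf_eq_prime hx h1)]
      exact mem_zpowers z
  rcases CfsgLib.UniqueSubgroup.cyclic_or_quaternion hP hz.1 huniq with h | ⟨-, h⟩
  · exact absurd h hnc
  · exact h

/-- Every element of order four is inverted by an element of order four. -/
theorem exists_inverter (hP : IsPGroup 2 P) (hz : UniqInv z) (hnc : ¬ IsCyclic P) {i : P}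
    (hi : orderOf i = 4) : ∃ q : P, orderOf q = 4 ∧ q * i * q⁻¹ = i⁻¹ := by
  obtain ⟨n, hn, ⟨e⟩⟩ := exists_quat hP hz hnc
  suffices h : ∀ j : QuaternionGroup (2 ^ n), orderOf j = 4 → ∃ q, orderOf q = 4 ∧ q * j * q⁻¹ = j⁻¹ by
    obtain ⟨q, hq, hq'⟩ := h (e i) (by rw [MulEquiv.orderOf_eq, hi])
    exact ⟨e.symm q, by rw [MulEquiv.orderOf_eq, hq], e.injective (by simp [hq'])⟩
  obtain ⟨m, rfl⟩ : ∃ m, n = m + 1 := ⟨n - 1, by omega⟩
  haveI : NeZero (2 ^ (m + 1)) := ⟨by positivity⟩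
  have h2N : ((2 ^ (m + 1) : ℕ) : ZMod (2 * 2 ^ (m + 1))) + (2 ^ (m + 1) : ℕ) = 0 := by
    rw [← Nat.cast_add, ← two_mul, ZMod.natCast_self]
  rintro (j | j) hj
  · refine ⟨QuaternionGroup.xa 0, QuaternionGroup.orderOf_xa 0, ?_⟩
    rw [mul_inv_eq_iff_eq_mul, show (QuaternionGroup.a j : QuaternionGroup (2 ^ (m + 1)))⁻¹
      = QuaternionGroup.a (-j) from rfl, QuaternionGroup.a_mul_xa, QuaternionGroup.xa_mul_a]
    congr 1
    ring
  · refine ⟨QuaternionGroup.a ((2 ^ m : ℕ) : ZMod _), ?_, ?_⟩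
    · rw [← QuaternionGroup.a_one_pow, orderOf_pow, QuaternionGroup.orderOf_a_one,
        Nat.gcd_eq_right (Dvd.intro 4 (by ring))]
      refine Nat.div_eq_of_eq_mul_left (by positivity) ?_
      ring
    · rw [mul_inv_eq_iff_eq_mul, show (QuaternionGroup.xa j : QuaternionGroup (2 ^ (m + 1)))⁻¹
        = QuaternionGroup.xa (((2 ^ (m + 1) : ℕ) : ZMod _) + j) from rfl, QuaternionGroup.a_mul_xa,
        QuaternionGroup.xa_mul_a]
      congr 1
      have h3 : ((2 ^ (m + 1) : ℕ) : ZMod (2 * 2 ^ (m + 1))) = 2 * (2 ^ m : ℕ) := by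
        push_cast; ring
      linear_combination (-1) * h2N + h3

/-- The elements of order four generate. -/
theorem closure_orderOf_four (hP : IsPGroup 2 P) (hz : UniqInv z) (hnc : ¬ IsCyclic P) :
    closure {x : P | orderOf x = 4} = ⊤ := by
  obtain ⟨n, hn, ⟨e⟩⟩ := exists_quat hP hz hnc
  haveI : NeZero (2 ^ n) := ⟨by positivity⟩
  have hxa : ∀ i, e.symm (QuaternionGroup.xa i) ∈ closure {x : P | orderOf x = 4} := fun i =>
    subset_closure (by simp)
  rw [eq_top_iff]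
  intro x _
  rw [← e.symm_apply_apply x]
  cases e x with
  | a j =>
    have h := mul_mem (hxa 0) (hxa (j - (2 ^ n : ℕ)))
    rw [← map_mul, QuaternionGroup.xa_mul_xa, sub_zero, add_sub_cancel] at h
    exact h
  | xa j => exact hxa j

theorem two_mul_orderOf_dvd (hP : IsPGroup 2 P) (hz : UniqInv z) (hnc : ¬ IsCyclic P) (x : P) :
    2 * orderOf x ∣ Nat.card P := by
  obtain ⟨n, hn, ⟨e⟩⟩ := exists_quat hP hz hnc
  haveI : NeZero (2 ^ n) := ⟨by positivity⟩
  rw [Nat.card_congr e.toEquiv, Nat.card_eq_fintype_card, QuaternionGroup.card, ← e.orderOf_eq x,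
    show 4 * 2 ^ n = 2 * (2 * 2 ^ n) by ring]
  refine Nat.mul_dvd_mul_left 2 ?_
  cases e x with
  | a j =>
    refine orderOf_dvd_of_pow_eq_one ?_
    rw [← ZMod.natCast_rightInverse j, ← QuaternionGroup.a_one_pow, ← pow_mul, mul_comm _ (2 * 2 ^ n),
      pow_mul, QuaternionGroup.a_one_pow_n, one_pow]
  | xa j =>
    rw [QuaternionGroup.orderOf_xa]
    have h2 : (2 : ℕ) ∣ 2 ^ n := dvd_pow_self 2 (Nat.one_le_iff_ne_zero.mp hn)
    exact Nat.mul_dvd_mul_left 2 h2

theorem exists_orderOf_eq (hP : IsPGroup 2 P) (hz : UniqInv z) (hnc : ¬ IsCyclic P) {d : ℕ}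
    (hd : 2 * d ∣ Nat.card P) : ∃ x : P, orderOf x = d := by
  obtain ⟨n, hn, ⟨e⟩⟩ := exists_quat hP hz hnc
  haveI : NeZero (2 ^ n) := ⟨by positivity⟩
  rw [Nat.card_congr e.toEquiv, Nat.card_eq_fintype_card, QuaternionGroup.card,
    show 4 * 2 ^ n = 2 * (2 * 2 ^ n) by ring, Nat.mul_dvd_mul_iff_left two_pos] at hd
  refine ⟨e.symm ((QuaternionGroup.a 1) ^ (2 * 2 ^ n / d)), ?_⟩
  rw [MulEquiv.orderOf_eq, orderOf_pow, QuaternionGroup.orderOf_a_one,
    Nat.gcd_eq_right (Nat.div_dvd_of_dvd hd), Nat.div_div_self hd (by positivity)]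

/-- A `2`-group with one involution and a central element of order four is cyclic. -/
theorem isCyclic_of_central_four (hP : IsPGroup 2 P) (hz : UniqInv z) {i : P} (hi : orderOf i = 4)
    (hc : ∀ x, x * i = i * x) : IsCyclic P := by
  by_contra hnc
  obtain ⟨q, -, hq⟩ := exists_inverter hP hz hnc hi
  rw [hc q, mul_inv_cancel_right] at hq
  have : i ^ 2 = 1 := by rw [sq]; exact eq_inv_iff_mul_eq_one.mp hq
  have := Nat.le_of_dvd two_pos (orderOf_dvd_of_pow_eq_one this)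
  omega

/-! ### A normalised quaternion or cyclic subgroup -/

theorem sq_eq_of_four {G : Type u} [Group G] {a t : G} {Q : Subgroup G} (ha : a ∈ Q) (h4 : orderOf a = 4)
    (huniq : ∀ x ∈ Q, orderOf x = 2 → x = t) : a ^ 2 = t := by
  refine huniq _ (Q.pow_mem ha 2) ?_
  rw [orderOf_pow' a (by norm_num), h4]
  norm_num

theorem inv_eq_mul_of_sq {G : Type u} [Group G] {a t : G} (h : a ^ 2 = t) (ht : t * t = 1) :
    a⁻¹ = a * t := by
  rw [inv_eq_iff_mul_eq_one, ← mul_assoc, ← sq, h, ht]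

/-- A `2`-group normalising a subgroup with one involution fixes an element of order four up to
inversion. -/
theorem exists_fixed_four {G : Type u} [Group G] [Finite G] {E Q : Subgroup G} (hE : IsPGroup 2 E)
    (hQE : Q ≤ E) (hn : E ≤ normalizer (Q : Set G)) {t : G} (ht : t ∈ Q) (h2 : orderOf t = 2)
    (huniq : ∀ x ∈ Q, orderOf x = 2 → x = t) (h4 : 4 ≤ Nat.card Q) :
    ∃ a ∈ Q, orderOf a = 4 ∧ ∀ e ∈ E, e * a * e⁻¹ = a ∨ e * a * e⁻¹ = a⁻¹ := by
  classical
  have hfix : ∀ e ∈ E, e * t * e⁻¹ = t := fun e he => by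
    refine huniq _ ((mem_normalizer_iff.mp (hn he) t).mp ht) ?_
    rw [show e * t * e⁻¹ = MulAut.conj e t from rfl, MulEquiv.orderOf_eq, h2]
  let t' : E := ⟨t, hQE ht⟩
  let Z : Subgroup E := zpowers t'
  haveI : Z.Normal := by
    refine ⟨fun x hx e => ?_⟩
    obtain ⟨k, rfl⟩ := mem_zpowers_iff.mp hx
    refine mem_zpowers_iff.mpr ⟨k, ?_⟩
    rw [← conj_zpow, show e * t' * e⁻¹ = t' from Subtype.ext (hfix e e.2)]
  let π := QuotientGroup.mk' Z
  have hp : IsPGroup 2 (E ⧸ Z) := hE.to_quotient Z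
  haveI : Group.IsNilpotent (E ⧸ Z) := hp.isNilpotent
  let Qb : Subgroup (E ⧸ Z) := (Q.subgroupOf E).map π
  haveI hQn : (Q.subgroupOf E).Normal := (normal_subgroupOf_iff_le_normalizer hQE).mpr hn
  haveI : Qb.Normal := hQn.map π (QuotientGroup.mk'_surjective Z)
  have hcardZ : Nat.card Z = 2 := by
    rw [Nat.card_zpowers, orderOf_mk t (hQE ht), h2]
  have hne : Qb ≠ ⊥ := by
    intro h
    have hle : Q.subgroupOf E ≤ Z := by
      have := (Q.subgroupOf E).le_comap_map π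
      rwa [show (Q.subgroupOf E).map π = ⊥ from h, MonoidHom.comap_bot, QuotientGroup.ker_mk'] at this
    have := Nat.le_of_dvd (by omega) (card_dvd_of_le hle)
    rw [Nat.card_congr (subgroupOfEquivOfLe hQE).toEquiv] at this
    omega
  have h1 : Qb ⊓ center (E ⧸ Z) ≠ ⊥ := CfsgLib.inf_center_ne_bot_of_nilpotent hne
  obtain ⟨k, hk⟩ := IsPGroup.iff_card.mp (hp.to_subgroup (Qb ⊓ center (E ⧸ Z)))
  have hk0 : k ≠ 0 := by
    rintro rfl
    exact h1 (eq_bot_of_card_eq _ hk)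
  obtain ⟨⟨x, hx⟩, hxo⟩ := exists_prime_orderOf_dvd_card' 2 (G := ↥(Qb ⊓ center (E ⧸ Z)))
    (hk ▸ dvd_pow_self 2 hk0)
  rw [orderOf_mk] at hxo
  obtain ⟨⟨a, ha, rfl⟩, hxc⟩ := mem_inf.mp hx
  have ha' : (a : G) ∈ Q := ha
  have hZ : ∀ y : E, y ∈ Z → (y : G) = 1 ∨ (y : G) = t := by
    intro y hy
    obtain ⟨k, rfl⟩ := mem_zpowers_iff.mp hy
    have ht2 : t' ^ (2 : ℕ) = 1 := by
      apply Subtype.ext
      show t ^ 2 = 1
      rw [← h2, pow_orderOf_eq_one]
    rcases Int.even_or_odd k with ⟨c, rfl⟩ | ⟨c, rfl⟩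
    · left
      rw [← two_mul, zpow_mul, zpow_ofNat, ht2, one_zpow]; rfl
    · right
      rw [zpow_add, zpow_mul, zpow_ofNat, ht2, one_zpow, one_mul, zpow_one]
  have haZ : a ∉ Z := fun h => by
    have h1 : π a = 1 := (QuotientGroup.eq_one_iff a).mpr h
    rw [h1, orderOf_one] at hxo
    omega
  have hne1 : (a : G) ≠ 1 := fun h => haZ ((Subtype.ext h : a = 1) ▸ one_mem Z)
  have ha2 : (a : G) ^ 2 = t := by
    have h1 : a ^ 2 ∈ Z := by
      rw [← QuotientGroup.eq_one_iff, QuotientGroup.mk_pow]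
      have := pow_orderOf_eq_one (π a)
      rwa [hxo] at this
    rcases hZ _ h1 with h | h
    · have := huniq _ ha' (orderOf_eq_prime (by simpa using h) hne1)
      exact absurd ((Subtype.ext this : a = t') ▸ mem_zpowers t') haZ
    · simpa using h
  have ht2 : t * t = 1 := by rw [← sq, ← h2, pow_orderOf_eq_one]
  have ho : orderOf (a : G) = 4 := by
    refine orderOf_eq_prime_pow (p := 2) (n := 1) ?_ ?_
    · rw [pow_one, ha2]
      rintro rfl
      simp at h2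
    · rw [show (2 : ℕ) ^ (1 + 1) = 2 * 2 from rfl, pow_mul, ha2, sq, ht2]
  refine ⟨a, ha', ho, fun e he => ?_⟩
  have h3 : (⟨e, he⟩ : E) * a * ⟨e, he⟩⁻¹ * a⁻¹ ∈ Z := by
    rw [← QuotientGroup.eq_one_iff]
    show π (_ * a * _ * a⁻¹) = 1
    rw [map_mul, map_mul, map_mul, mem_center_iff.mp hxc (π _), map_inv, map_inv]
    group
  rcases hZ _ h3 with h | h
  · exact Or.inl (mul_inv_eq_one.mp h)
  · right
    have h' : e * a * e⁻¹ = t * a := mul_inv_eq_iff_eq_mul.mp h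
    rw [h', inv_eq_mul_of_sq ha2 ht2, ← ha2, ← pow_succ, ← pow_succ']

end CfsgLib.TwoCompFour
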