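import Cfsg.Agent.Lib.TwoCompFour.Type
import Cfsg.Agent.Lib.Comp.PC
import Cfsg.Agent.Lib.Comp.PCompMore
import Cfsg.Agent.Lib.Comp.BalanceTwo

/-! `2`-components whose quotient modulo the odd core has only one involution. -/

set_option autoImplicit false
set_option linter.unusedSectionVars false

namespace CfsgLib.TwoCompFour

open Subgroup Cfsg CfsgLib.Comp
open scoped commutatorElement

universe u

variable {G : Type u} [Group G] [Finite G]

/-- The centralizer of an element. -/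
abbrev cen (t : G) : Subgroup G := Subgroup.centralizer ({t} : Set G)

theorem mem_cen {t x : G} : x ∈ cen t ↔ x * t = t * x := mem_centralizer_singleton_iff

/-- `J` is generated by `2`-elements, quasisimple modulo its odd core, and `z` is its only involution. -/
structure QT (z : G) (J : Subgroup G) : Prop where
  inv : orderOf z = 2
  mem : z ∈ J
  uniq : ∀ x ∈ J, orderOf x = 2 → x = z
  pel : pEl 2 J = J
  qs : IsQuasisimple (↥J ⧸ pPrimeCore 2 ↥J)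

/-- The order of the simple quotient. -/
noncomputable def sc (J : Subgroup G) : ℕ :=
  Nat.card (↥J ⧸ pPrimeCore 2 ↥J) / Nat.card (center (↥J ⧸ pPrimeCore 2 ↥J))

theorem sc_eq_of_equiv {J : Subgroup G} {Y : Type u} [Group Y] (e : ↥J ⧸ pPrimeCore 2 ↥J ≃* Y) :
    sc J = Nat.card Y / Nat.card (center Y) := by
  rw [sc, Nat.card_congr e.toEquiv, Nat.card_congr (Subgroup.centerCongr e).toEquiv]

theorem sc_congr {J R : Subgroup G} (e : ↥J ⧸ pPrimeCore 2 ↥J ≃* ↥R ⧸ pPrimeCore 2 ↥R) : sc J = sc R :=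
  sc_eq_of_equiv e

theorem quot_card_eq_sc (J : Subgroup G) :
    Nat.card ((↥J ⧸ pPrimeCore 2 ↥J) ⧸ center (↥J ⧸ pPrimeCore 2 ↥J)) = sc J := by
  rw [sc, eq_comm]
  exact Nat.div_eq_of_eq_mul_left Nat.card_pos (Subgroup.card_eq_card_quotient_mul_card_subgroup _)

/-! ### `2`-elements -/

theorem two_el_of_mem {S : Subgroup G} (hS : IsPGroup 2 S) {x : G} (hx : x ∈ S) : ∃ k, x ^ 2 ^ k = 1 := by
  obtain ⟨k, hk⟩ := hS ⟨x, hx⟩
  exact ⟨k, congrArg Subtype.val hk⟩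

theorem two_el_of_two {x : G} (h : orderOf x = 2) : ∃ k, x ^ 2 ^ k = 1 :=
  ⟨1, by rw [pow_one, ← h, pow_orderOf_eq_one]⟩

theorem two_el_of_four {x : G} (h : orderOf x = 4) : ∃ k, x ^ 2 ^ k = 1 :=
  ⟨2, by rw [show (2 : ℕ) ^ 2 = 4 from rfl, ← h, pow_orderOf_eq_one]⟩

theorem sq_one_of_two {x : G} (h : orderOf x = 2) : x * x = 1 := by
  rw [← sq, ← h, pow_orderOf_eq_one]

theorem inv_of_two {x : G} (h : orderOf x = 2) : x⁻¹ = x := inv_eq_of_mul_eq_one_right (sq_one_of_two h)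

theorem orderOf_conj' (g x : G) : orderOf (g * x * g⁻¹) = orderOf x := by
  rw [show g * x * g⁻¹ = MulAut.conj g x from rfl, MulEquiv.orderOf_eq]

theorem bar_order {J : Subgroup G} {x : G} (hx : x ∈ J) (h2 : ∃ k, x ^ 2 ^ k = 1) :
    orderOf (bar 2 ↥J ⟨x, hx⟩) = orderOf x := by
  obtain ⟨k, hk⟩ := h2
  refine Nat.dvd_antisymm ?_ ?_
  · exact (orderOf_map_dvd (bar 2 ↥J) ⟨x, hx⟩).trans (by rw [orderOf_mk])
  · have h1 := pow_orderOf_eq_one (bar 2 ↥J ⟨x, hx⟩)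
    rw [← map_pow, QuotientGroup.mk'_apply, QuotientGroup.eq_one_iff] at h1
    have h3 := pElement_eq_one_of_coprime (p := 2) (card_Om_coprime J) (⟨_, h1, rfl⟩ : x ^ _ ∈ Om 2 J)
      (n := k) (by rw [← pow_mul, mul_comm, pow_mul, hk, one_pow])
    exact orderOf_dvd_of_pow_eq_one h3

theorem commute_of_mem_inter {A : Subgroup G} (hA : (Nat.card A).Coprime 2) {x : G} (hx : x ∈ A)
    (h2 : ∃ k, x ^ 2 ^ k = 1) : x = 1 := pElement_eq_one_of_coprime hA hx h2.choose_spec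

/-- Involutions congruent modulo an odd normalised subgroup are conjugate by an element of it. -/
theorem exists_conj_of_congr {N : Subgroup G} (hN : (Nat.card N).Coprime 2) {x y : G}
    (hx : orderOf x = 2) (hy : orderOf y = 2) (hxy : x * y ∈ N) : ∃ c ∈ N, c * x * c⁻¹ = y := by
  set k := x * y with hk
  have hodd : Odd (orderOf k) := Nat.coprime_two_right.mp
    (Nat.Coprime.coprime_dvd_left (Subgroup.orderOf_dvd_natCard _ hxy) hN)
  obtain ⟨r, hr⟩ := hodd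
  have hxk : x * k * x⁻¹ = k⁻¹ := by
    rw [hk, mul_inv_rev, inv_of_two hx, inv_of_two hy, ← mul_assoc, sq_one_of_two hx, one_mul]
  refine ⟨k ^ r, pow_mem hxy _, ?_⟩
  have h1 : x * (k ^ r)⁻¹ = k ^ r * x := by
    have h2 : x * k ^ r * x⁻¹ = (k ^ r)⁻¹ := by rw [← conj_pow, hxk, inv_pow]
    rw [← h2, inv_of_two hx]
    group
    rw [show x * x = 1 from sq_one_of_two hx, one_mul]
  have hpow : k ^ (2 * r + 1) = 1 := hr ▸ pow_orderOf_eq_one k
  calc k ^ r * x * (k ^ r)⁻¹ = k ^ r * (x * (k ^ r)⁻¹) := mul_assoc _ _ _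
    _ = k ^ (2 * r) * x := by rw [h1, ← mul_assoc, ← pow_add, two_mul]
    _ = k⁻¹ * x := by rw [← mul_eq_one_iff_eq_inv.mp (by rw [← pow_succ]; exact hpow)]
    _ = y := by rw [hk, mul_inv_rev, inv_of_two hy, inv_of_two hx, mul_assoc, sq_one_of_two hx, mul_one]

/-! ### Elements acting trivially on `J` modulo the odd core -/

/-- Normalising elements that act trivially on `J / O(J)`. -/
def Cb (J : Subgroup G) : Subgroup G where
  carrier := {a | a ∈ normalizer (J : Set G) ∧ ∀ k ∈ J, a * k * a⁻¹ * k⁻¹ ∈ Om 2 J}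
  one_mem' := ⟨one_mem _, fun k _ => by simp⟩
  mul_mem' := fun {a b} ha hb => ⟨mul_mem ha.1 hb.1, fun k hk => by
    have h1 := mul_mem ((mem_normalizer_iff.mp (normalizer_le_normalizer_Om J ha.1) _).mp (hb.2 k hk))
      (ha.2 k hk)
    simpa [mul_assoc] using h1⟩
  inv_mem' := fun {a} ha => ⟨inv_mem ha.1, fun k hk => by
    have h1 := inv_mem ((mem_normalizer_iff.mp
      (normalizer_le_normalizer_Om J (inv_mem ha.1)) _).mp (ha.2 k hk))
    simpa [mul_assoc] using h1⟩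

theorem mem_Cb {J : Subgroup G} {x : G} :
    x ∈ Cb J ↔ x ∈ normalizer (J : Set G) ∧ ∀ k ∈ J, x * k * x⁻¹ * k⁻¹ ∈ Om 2 J := Iff.rfl

theorem Cb_le {J : Subgroup G} : Cb J ≤ normalizer (J : Set G) := fun _ h => h.1

theorem normalizer_le_normalizer_Cb (J : Subgroup G) :
    normalizer (J : Set G) ≤ normalizer (Cb J : Set G) := by
  intro g hg
  refine mem_normalizer_of_maps fun x hx => ⟨mul_mem (mul_mem hg hx.1) (inv_mem hg), fun k hk => ?_⟩
  have hk' : g⁻¹ * k * g ∈ J := by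
    simpa using (mem_normalizer_iff.mp (inv_mem hg) k).mp hk
  have h1 := (mem_normalizer_iff.mp (normalizer_le_normalizer_Om J hg) _).mp (hx.2 _ hk')
  simpa [mul_assoc] using h1

theorem Om_mem_of_commute {J : Subgroup G} {x : G} (hx : ∀ k ∈ J, x * k = k * x) : x ∈ Cb J := by
  refine ⟨mem_normalizer_of_maps fun k hk => ?_, fun k hk => ?_⟩
  · rw [hx k hk, mul_inv_cancel_right]; exact hk
  · rw [hx k hk, mul_inv_cancel_right, mul_inv_cancel]; exact one_mem _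

namespace QT

variable {z : G} {J : Subgroup G}

theorem z_comm (h : QT z J) {k : G} (hk : k ∈ J) : z * k = k * z :=
  (mul_inv_eq_iff_eq_mul.mp (h.uniq _ (mul_mem (mul_mem hk h.mem) (inv_mem hk))
    (by rw [orderOf_conj', h.inv]))).symm

theorem z_mem_Cb (h : QT z J) : z ∈ Cb J := Om_mem_of_commute fun _ hk => h.z_comm hk

theorem four_sq (h : QT z J) {a : G} (ha : a ∈ J) (h4 : orderOf a = 4) : a ^ 2 = z :=
  sq_eq_of_four ha h4 h.uniq

theorem four_inv (h : QT z J) {a : G} (ha : a ∈ J) (h4 : orderOf a = 4) : a⁻¹ = a * z :=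
  inv_eq_mul_of_sq (h.four_sq ha h4) (sq_one_of_two h.inv)

theorem oneInv (h : QT z J) :
    OneInv (↥J ⧸ pPrimeCore 2 ↥J) (bar 2 ↥J ⟨z, h.mem⟩) := by
  refine ⟨h.qs, pPrimeCore_quotient_eq_bot 2, by rw [bar_order h.mem (two_el_of_two h.inv), h.inv],
    fun x hx => ?_⟩
  obtain ⟨⟨y, hy⟩, -, ⟨k, hk⟩, rfl⟩ := exists_lift (p := 2) (bar 2 ↥J) ⊤
    (y := x) (by rw [map_top_of_surjective _ (bar_surjective 2)]; trivial) (k := 1)
    (orderOf_dvd_iff_pow_eq_one.mp (by rw [hx]; norm_num))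
  have hy2 : ∃ k, y ^ 2 ^ k = 1 := ⟨k, congrArg Subtype.val hk⟩
  rw [bar_order hy hy2] at hx
  obtain rfl := h.uniq y hy hx
  rfl

theorem not_Cb (h : QT z J) {x : G} (hx : x ∈ J) (h2 : ∃ k, x ^ 2 ^ k = 1) (hc : x ∈ Cb J) :
    orderOf x ≤ 2 := by
  have hcen : bar 2 ↥J ⟨x, hx⟩ ∈ center (↥J ⧸ pPrimeCore 2 ↥J) := by
    refine mem_center_iff.mpr fun q => ?_
    obtain ⟨⟨k, hk⟩, rfl⟩ := bar_surjective 2 q
    have h1 : (⟨x, hx⟩ * ⟨k, hk⟩ * ⟨x, hx⟩⁻¹ * ⟨k, hk⟩⁻¹ : ↥J) ∈ pPrimeCore 2 ↥J :=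
      (mem_Om_iff (p := 2) (L := J)
        (mul_mem (mul_mem (mul_mem hx hk) (inv_mem hx)) (inv_mem hk))).mp (hc.2 k hk)
    rw [← QuotientGroup.eq_one_iff, ← QuotientGroup.mk'_apply, map_mul, map_mul, map_mul, map_inv, map_inv,
      mul_inv_eq_one, mul_inv_eq_iff_eq_mul] at h1
    exact h1.symm
  rw [← bar_order hx h2]
  rcases h.oneInv.mem_center_imp hcen with e | e <;> rw [e]
  · simp
  · rw [bar_order h.mem (two_el_of_two h.inv), h.inv]

theorem conj (h : QT z J) (g : G) : QT (g * z * g⁻¹) (cj g J) := by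
  refine ⟨by rw [orderOf_conj', h.inv], ⟨z, h.mem, rfl⟩, ?_, ?_, ?_⟩
  · rintro _ ⟨x, hx, rfl⟩ hxo
    rw [show (MulAut.conj g).toMonoidHom x = MulAut.conj g x from rfl, MulEquiv.orderOf_eq] at hxo
    rw [h.uniq x hx hxo]; rfl
  · rw [cj, ← pEl_map_equiv, h.pel]
  · exact isQuasisimple_of_equiv (QuotientGroup.congr _ _ ((MulAut.conj g).subgroupMap J)
      (pPrimeCore_map_equiv 2 _)) h.qs

theorem sc_eq (h : QT z J) : 2 * sc J = Nat.card (↥J ⧸ pPrimeCore 2 ↥J) := by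
  rw [← quot_card_eq_sc, h.oneInv.card_quot]

end QT

theorem sc_cj (J : Subgroup G) (g : G) : sc J = sc (cj g J) :=
  sc_congr (QuotientGroup.congr _ _ ((MulAut.conj g).subgroupMap J) (pPrimeCore_map_equiv 2 _))

theorem QT.fix {z : G} {K H : Subgroup G} (h : QT z K) (hK : IsPC 2 K H) {y : G} (hy : orderOf y = 2)
    (hyK : y ∈ Cb K) (hyz : z * y = y * z) :
    IsPC 2 (fixPC 2 K y) (H ⊓ cen y) ∧ QT z (fixPC 2 K y) ∧ sc (fixPC 2 K y) = sc K ∧
      fixPC 2 K y ≤ K := by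
  obtain ⟨h1, -, ⟨e⟩, -⟩ := hK.fix hy hyK.2
  have hle : fixPC 2 K y ≤ K := (pEl_le _).trans inf_le_left
  refine ⟨h1, ⟨h.inv, subset_closure ⟨mem_inf.mpr ⟨h.mem, mem_cen.mpr hyz⟩, two_el_of_two h.inv⟩,
    fun x hx => h.uniq x (hle hx), h1.pel, h1.qs⟩, sc_congr e, hle⟩

theorem mem_fixPC {K : Subgroup G} {y x : G} (hx : x ∈ K) (h2 : ∃ k, x ^ 2 ^ k = 1)
    (hxy : x * y = y * x) : x ∈ fixPC 2 K y :=
  subset_closure ⟨mem_inf.mpr ⟨hx, mem_cen.mpr hxy⟩, h2⟩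

theorem fixPC_le_cen (K : Subgroup G) (y : G) : fixPC 2 K y ≤ cen y := (pEl_le _).trans inf_le_right

/-! ### The layer -/

theorem le_layer {L H : Subgroup G} (hL : IsPC 2 L H) : L ≤ pLayerOf 2 H := by
  rw [← Subgroup.map_subgroupOf_eq_of_le hL.le]
  exact Subgroup.map_mono (le_sSup hL.toPComp)

theorem layer_le (H : Subgroup G) : pLayerOf 2 H ≤ H := Subgroup.map_subtype_le _

theorem layer_le_normalizer {J H : Subgroup G} (hJ : IsPC 2 J H) :
    pLayerOf 2 H ≤ normalizer (J : Set G) := by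
  rintro _ ⟨x, hx, rfl⟩
  refine mem_normalizer_of_maps fun j hj => ?_
  exact (mem_normalizer_iff.mp (pLayer_le_normalizer hJ.toPComp hx) ⟨j, hJ.le hj⟩).mp hj

theorem le_normalizer_layer (H : Subgroup G) : H ≤ normalizer (pLayerOf 2 H : Set G) := by
  intro h hh
  refine mem_normalizer_of_maps ?_
  rintro _ ⟨x, hx, rfl⟩
  exact ⟨⟨h, hh⟩ * x * ⟨h, hh⟩⁻¹, (inferInstance : (pLayer 2 ↥H).Normal).conj_mem x hx _, rfl⟩

theorem comm_mem_core {J J' H : Subgroup G} (hJ : IsPC 2 J H) (hJ' : IsPC 2 J' H) (hne : J ≠ J') {x y : G}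
    (hx : x ∈ J) (hy : y ∈ J') : x * y * x⁻¹ * y⁻¹ ∈ (pPrimeCore 2 ↥H).map H.subtype :=
  hJ.commutator_le hJ' hne (by rw [← commutatorElement_def]; exact commutator_mem_commutator hx hy)

theorem pcomp_le_Cb {J J' H : Subgroup G} (hJ : IsPC 2 J H) (hJ' : IsPC 2 J' H) (hne : J ≠ J') :
    J' ≤ Cb J := by
  intro x hx
  have hn : x ∈ normalizer (J : Set G) := layer_le_normalizer hJ (le_layer hJ' hx)
  refine ⟨hn, fun k hk => ?_⟩
  rw [hJ.Om_eq]
  refine mem_inf.mpr ⟨mul_mem ((mem_normalizer_iff.mp hn k).mp hk) (inv_mem hk), ?_⟩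
  have := inv_mem (comm_mem_core hJ hJ' hne hk hx)
  simpa [mul_assoc] using this

theorem sup_Cb_le (J : Subgroup G) : J ⊔ Cb J ≤ normalizer (J : Set G) := sup_le le_normalizer Cb_le

theorem layer_le_sup_Cb {J H : Subgroup G} (hJ : IsPC 2 J H) : pLayerOf 2 H ≤ J ⊔ Cb J := by
  rw [pLayerOf, Subgroup.map_le_iff_le_comap]
  refine sSup_le fun K hK => ?_
  rw [← Subgroup.map_le_iff_le_comap]
  have hK' : IsPC 2 (K.map H.subtype) H := IsPC.of_pcompOf ⟨Subgroup.map_subtype_le _, by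
    rw [Subgroup.subgroupOf, Subgroup.comap_map_eq_self_of_injective H.subtype_injective]; exact hK⟩
  by_cases he : J = K.map H.subtype
  · rw [← he]; exact le_sup_left
  · exact (pcomp_le_Cb hJ hK' he).trans le_sup_right

/-- Two components sharing a `2`-element of order at least four are equal. -/
theorem eq_of_mem {z : G} {J J' H : Subgroup G} (h : QT z J) (hJ : IsPC 2 J H) (hJ' : IsPC 2 J' H) {x : G}
    (hx : x ∈ J) (hx' : x ∈ J') (h2 : ∃ k, x ^ 2 ^ k = 1) (h4 : 4 ≤ orderOf x) : J' = J := by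
  by_contra hne
  have := h.not_Cb hx h2 (pcomp_le_Cb hJ hJ' (Ne.symm hne) hx')
  omega

theorem comm_of_ne {J J' H S : Subgroup G} (hJ : IsPC 2 J H) (hJ' : IsPC 2 J' H) (hne : J ≠ J')
    (hS : IsPGroup 2 S) {x y : G} (hx : x ∈ J) (hy : y ∈ J') (hxS : x ∈ S) (hyS : y ∈ S) :
    x * y = y * x := by
  have h1 := commute_of_mem_inter (A := (pPrimeCore 2 ↥H).map H.subtype)
    (by rw [Subgroup.card_map_of_injective H.subtype_injective]; exact card_pPrimeCore_coprime 2)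
    (comm_mem_core hJ hJ' hne hx hy)
    (two_el_of_mem hS (mul_mem (mul_mem (mul_mem hxS hyS) (inv_mem hxS)) (inv_mem hyS)))
  exact mul_inv_eq_iff_eq_mul.mp (mul_inv_eq_one.mp h1)

/-! ### Sylow subgroups -/

/-- `Q` is a Sylow `2`-subgroup of `J`. -/
structure Syl (J Q : Subgroup G) : Prop where
  le : Q ≤ J
  two : IsPGroup 2 Q
  idx : ¬ 2 ∣ Q.relIndex J

theorem exists_sylow_in {H B : Subgroup G} (hBH : B ≤ H) (hB : IsPGroup 2 B) :
    ∃ S : Subgroup G, B ≤ S ∧ S ≤ H ∧ IsPGroup 2 S ∧ ∀ J : Subgroup G, IsPC 2 J H → Syl J (S ⊓ J) := by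
  have hB' : IsPGroup 2 (B.subgroupOf H) := hB.of_equiv (subgroupOfEquivOfLe hBH).symm
  obtain ⟨P, hP⟩ := hB'.exists_le_sylow
  refine ⟨(P : Subgroup ↥H).map H.subtype, ?_, map_subtype_le _, P.2.map _, fun J hJ => ?_⟩
  · exact (map_subgroupOf_eq_of_le hBH).symm.le.trans (map_mono hP)
  obtain ⟨-, hp, hidx⟩ := isSylowIn_inf_of_subnormal P hJ.subnormal
  have e : (P : Subgroup ↥H).map H.subtype ⊓ J = ((P : Subgroup ↥H) ⊓ J.subgroupOf H).map H.subtype := by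
    rw [map_inf _ _ _ H.subtype_injective, map_subgroupOf_eq_of_le hJ.le]
  refine ⟨inf_le_right, e ▸ hp.map _, ?_⟩
  have h1 := relIndex_map_map_of_injective ((P : Subgroup ↥H) ⊓ J.subgroupOf H) (J.subgroupOf H)
    H.subtype_injective
  rw [map_subgroupOf_eq_of_le hJ.le] at h1
  rw [e, h1]
  exact hidx

namespace Syl

variable {z : G} {J Q : Subgroup G}

/-- The image in `J / O(J)` as a Sylow subgroup. -/
theorem exists_sylow (hQ : Syl J Q) :
    ∃ P : Sylow 2 (↥J ⧸ pPrimeCore 2 ↥J), (P : Subgroup _) = (Q.subgroupOf J).map (bar 2 ↥J) := by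
  have hp : IsPGroup 2 (Q.subgroupOf J) := hQ.two.of_equiv (subgroupOfEquivOfLe hQ.le).symm
  exact ⟨(hp.toSylow hQ.idx).mapSurjective (bar_surjective 2), rfl⟩

theorem z_mem (hQ : Syl J Q) (h : QT z J) : z ∈ Q := by
  obtain ⟨P, hP⟩ := hQ.exists_sylow
  have hzP : bar 2 ↥J ⟨z, h.mem⟩ ∈ (P : Subgroup _) := h.oneInv.z_mem_sylow P
  rw [hP] at hzP
  obtain ⟨⟨s, hs⟩, hsQ, e⟩ := hzP
  have h1 := congrArg orderOf e
  rw [bar_order hs (two_el_of_mem hQ.two hsQ), bar_order h.mem (two_el_of_two h.inv), h.inv] at h1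
  exact h.uniq s hs h1 ▸ hsQ

theorem uniqInv (hQ : Syl J Q) (h : QT z J) : UniqInv (⟨z, hQ.z_mem h⟩ : ↥Q) :=
  ⟨by rw [orderOf_mk, h.inv],
    fun x hx => Subtype.ext (h.uniq x (hQ.le x.2) (by rw [orderOf_coe, hx]))⟩

theorem not_cyclic (hQ : Syl J Q) (h : QT z J) : ¬ IsCyclic ↥Q := by
  intro hc
  obtain ⟨P, hP⟩ := hQ.exists_sylow
  refine h.oneInv.sylow_not_cyclic P ?_
  rw [hP]
  haveI : IsCyclic ↥(Q.subgroupOf J) := isCyclic_of_surjective (subgroupOfEquivOfLe hQ.le).symm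
    (subgroupOfEquivOfLe hQ.le).symm.surjective
  exact isCyclic_of_surjective _ ((bar 2 ↥J).subgroupMap_surjective _)

theorem exists_inverter (hQ : Syl J Q) (h : QT z J) {a : G} (ha : a ∈ Q) (h4 : orderOf a = 4) :
    ∃ q ∈ Q, orderOf q = 4 ∧ q * a * q⁻¹ = a⁻¹ := by
  obtain ⟨q, hq, e⟩ := TwoCompFour.exists_inverter hQ.two (hQ.uniqInv h) (hQ.not_cyclic h)
    (i := ⟨a, ha⟩) (by rw [orderOf_mk, h4])
  exact ⟨q, q.2, by rw [orderOf_coe, hq], congrArg Subtype.val e⟩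

theorem closure_four (hQ : Syl J Q) (h : QT z J) :
    Q ≤ closure {x : G | x ∈ Q ∧ orderOf x = 4} := by
  have h1 := congrArg (Subgroup.map Q.subtype)
    (closure_orderOf_four hQ.two (hQ.uniqInv h) (hQ.not_cyclic h))
  rw [← MonoidHom.range_eq_map, range_subtype, MonoidHom.map_closure] at h1
  refine h1.ge.trans (closure_mono ?_)
  rintro _ ⟨x, hx, rfl⟩
  exact ⟨x.2, by rw [coe_subtype, orderOf_coe]; exact hx⟩

theorem four_le_card (hQ : Syl J Q) (h : QT z J) : 4 ≤ Nat.card ↥Q := by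
  obtain ⟨n, -, ⟨e⟩⟩ := exists_quat hQ.two (hQ.uniqInv h) (hQ.not_cyclic h)
  haveI : NeZero (2 ^ n) := ⟨by positivity⟩
  rw [Nat.card_congr e.toEquiv, Nat.card_eq_fintype_card, QuaternionGroup.card]
  exact Nat.le_mul_of_pos_right 4 (by positivity)

theorem exists_fixed (hQ : Syl J Q) (h : QT z J) {E : Subgroup G} (hE : IsPGroup 2 E) (hQE : Q ≤ E)
    (hn : E ≤ normalizer (Q : Set G)) :
    ∃ a ∈ Q, orderOf a = 4 ∧ ∀ e ∈ E, e * a * e⁻¹ = a ∨ e * a * e⁻¹ = a⁻¹ :=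
  exists_fixed_four hE hQE hn (hQ.z_mem h) h.inv (fun x hx => h.uniq x (hQ.le hx)) (hQ.four_le_card h)

theorem exists_four (hQ : Syl J Q) (h : QT z J) : ∃ a ∈ Q, orderOf a = 4 := by
  obtain ⟨a, ha, ho, -⟩ := hQ.exists_fixed h hQ.two le_rfl le_normalizer
  exact ⟨a, ha, ho⟩

/-- A `2`-subgroup of `J` containing `Q` equals `Q`. -/
theorem eq_of_le (hQ : Syl J Q) {B : Subgroup G} (hQB : Q ≤ B) (hBJ : B ≤ J) (hB : IsPGroup 2 B) :
    B = Q := by
  refine le_antisymm ?_ hQB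
  rw [← relIndex_eq_one]
  obtain ⟨k, hk⟩ := IsPGroup.iff_card.mp hB
  have h1 : Q.relIndex B ∣ 2 ^ k := hk ▸ relIndex_dvd_card Q B
  have h2 : Q.relIndex B ∣ Q.relIndex J := Dvd.intro _ (relIndex_mul_relIndex Q B J hQB hBJ)
  obtain ⟨i, -, hi⟩ := (Nat.dvd_prime_pow Nat.prime_two).mp h1
  rcases i with _ | i
  · simpa using hi
  · exact absurd ((hi ▸ dvd_pow_self 2 (Nat.succ_ne_zero i)).trans h2) hQ.idx

end Syl

theorem inf_normalizer_le {S J : Subgroup G} {x : G} (hxS : x ∈ S) (hxJ : x ∈ normalizer (J : Set G)) :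
    x ∈ normalizer ((S ⊓ J : Subgroup G) : Set G) :=
  mem_normalizer_of_maps fun a ha => mem_inf.mpr
    ⟨mul_mem (mul_mem hxS (mem_inf.mp ha).1) (inv_mem hxS),
      (mem_normalizer_iff.mp hxJ a).mp (mem_inf.mp ha).2⟩

/-! ### Balance -/

theorem balance {L : Subgroup G} {s t : G} (ht : orderOf t = 2) (hst : t * s = s * t)
    (hL : IsPC 2 L (cen s ⊓ cen t)) : L ≤ pLayerOf 2 (cen s) := by
  set A := cen s
  let t' : ↥A := ⟨t, mem_cen.mpr hst⟩
  have hT : IsPGroup 2 ↥(zpowers t') :=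
    IsPGroup.of_card (n := 1) (by rw [Nat.card_zpowers, orderOf_mk, ht, pow_one])
  set C' := Subgroup.centralizer (zpowers t' : Set ↥A) with hC'
  have hmem : ∀ x : ↥A, x ∈ C' ↔ (x : G) * t = t * x := by
    intro x
    rw [hC', mem_centralizer_iff]
    constructor
    · exact fun h => (congrArg Subtype.val (h t' (mem_zpowers t'))).symm
    · intro h y hy
      obtain ⟨k, rfl⟩ := mem_zpowers_iff.mp hy
      exact ((show Commute x t' from Subtype.ext h).zpow_right k).eq.symm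
  let f : ↥(cen s ⊓ cen t) →* ↥C' :=
    { toFun := fun x => ⟨⟨x, (mem_inf.mp x.2).1⟩, (hmem _).mpr (mem_cen.mp (mem_inf.mp x.2).2)⟩
      map_one' := rfl
      map_mul' := fun _ _ => rfl }
  have hf : Function.Surjective f := fun y =>
    ⟨⟨((y : ↥A) : G), mem_inf.mpr ⟨(y : ↥A).2, mem_cen.mpr ((hmem _).mp y.2)⟩⟩, rfl⟩
  have hker : f.ker ≤ pPrimeCore 2 ↥(cen s ⊓ cen t) := fun x hx => by
    have h1 : (x : G) = 1 := congrArg (fun y : ↥C' => ((y : ↥A) : G)) (MonoidHom.mem_ker.mp hx)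
    rw [show x = 1 from Subtype.ext h1]
    exact one_mem _
  have hc := isPComponent_map_surjective f hf hker hL.toPComp
  intro x hx
  have h0 : (L.subgroupOf (cen s ⊓ cen t)).map f ≤ pLayer 2 ↥C' := le_sSup hc
  have h1 : f ⟨x, hL.le hx⟩ ∈ pLayer 2 ↥C' := h0 ⟨⟨x, hL.le hx⟩, hx, rfl⟩
  exact ⟨_, pLayer_balance_two_centralizer (zpowers t') hT ⟨_, h1, rfl⟩, rfl⟩

/-! ### Commuting actions -/

theorem hom_eq_id_of_central {X : Type u} [Group X] [Group.IsPerfect X] (f : X →* X)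
    (h : ∀ x, f x * x⁻¹ ∈ center X) (x : X) : f x = x := by
  have hle : commutator X ≤ f.eqLocus (MonoidHom.id X) := by
    rw [commutator_eq_closure, closure_le]
    rintro _ ⟨a, b, rfl⟩
    show f ⁅a, b⁆ = ⁅a, b⁆
    obtain ⟨c, hc, hca⟩ : ∃ c ∈ center X, f a = c * a := ⟨_, h a, by rw [inv_mul_cancel_right]⟩
    obtain ⟨d, hd, hdb⟩ : ∃ d ∈ center X, f b = d * b := ⟨_, h b, by rw [inv_mul_cancel_right]⟩
    rw [map_commutatorElement, hca, hdb, commutatorElement_def, commutatorElement_def]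
    have c1 : ∀ g, g * c = c * g := mem_center_iff.mp hc
    have d1 : ∀ g, g * d = d * g := mem_center_iff.mp hd
    calc c * a * (d * b) * (c * a)⁻¹ * (d * b)⁻¹
        = c * (a * d) * b * a⁻¹ * c⁻¹ * b⁻¹ * d⁻¹ := by group
      _ = d * (c * (a * b * a⁻¹)) * c⁻¹ * b⁻¹ * d⁻¹ := by rw [d1 a, ← mul_assoc c, d1 c]; group
      _ = d * (a * b * a⁻¹ * b⁻¹) * d⁻¹ := by rw [← c1 (a * b * a⁻¹)]; group
      _ = a * b * a⁻¹ * b⁻¹ := by rw [← d1, mul_inv_cancel_right]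
  rw [Group.IsPerfect.commutator_eq_top] at hle
  exact hle (mem_top x)

/-- A subgroup with the same simple quotient inside `J C(J̄)` that centralizes `g ∈ N(J)`: either it
centralizes `J̄` or `g` does. -/
theorem HOM {R J : Subgroup G} (hJqs : IsQuasisimple (↥J ⧸ pPrimeCore 2 ↥J))
    (hRqs : IsQuasisimple (↥R ⧸ pPrimeCore 2 ↥R)) (hRp : pEl 2 R = R) (hsc : sc R = sc J)
    (hR : R ≤ J ⊔ Cb J) {g : G} (hg : g ∈ normalizer (J : Set G)) (hgR : ∀ r ∈ R, g * r = r * g) :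
    R ≤ Cb J ∨ g ∈ Cb J := by
  set N := J ⊔ Cb J with hN
  haveI hCn : ((Cb J).subgroupOf N).Normal := (normal_subgroupOf_iff_le_normalizer le_sup_right).mpr
    ((sup_Cb_le J).trans (normalizer_le_normalizer_Cb J))
  let π := QuotientGroup.mk' ((Cb J).subgroupOf N)
  let ρ : ↥R →* ↥N ⧸ (Cb J).subgroupOf N := π.comp (inclusion hR)
  have hker : ∀ r : ↥R, r ∈ ρ.ker ↔ (r : G) ∈ Cb J := fun r => QuotientGroup.eq_one_iff _
  rcases quasisimple_normal_le_center_or_eq_top hRqs (ρ.ker.map (bar 2 ↥R))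
    (hN := (MonoidHom.normal_ker ρ).map _ (bar_surjective 2)) with hc | ht
  swap
  · left
    have hsup : ρ.ker ⊔ pPrimeCore 2 ↥R = ⊤ := by
      rw [← QuotientGroup.ker_mk' (pPrimeCore 2 ↥R), ← comap_map_eq, ht, comap_top]
    have hidx : ρ.ker.index.Coprime 2 := by
      rw [← relIndex_top_right, ← hsup, sup_comm, relIndex_sup_right]
      exact Nat.Coprime.coprime_dvd_left (relIndex_dvd_card _ _) (card_pPrimeCore_coprime 2)
    refine hRp.ge.trans ?_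
    rw [pEl, closure_le]
    rintro r ⟨hr, k, hk⟩
    exact (hker ⟨r, hr⟩).mp (pow_eq_one_mem_of_subnormal (p := 2) (k := k)
      (Subgroup.Normal.isSubnormal inferInstance) hidx (Subtype.ext hk))
  right
  -- the image of `R` is everything
  have hub : Nat.card (↥N ⧸ (Cb J).subgroupOf N) ≤ sc J := by
    let σ : ↥J →* ↥N ⧸ (Cb J).subgroupOf N := π.comp (inclusion le_sup_left)
    have hσ : Function.Surjective σ := by
      intro q
      obtain ⟨⟨x, hx⟩, rfl⟩ := QuotientGroup.mk'_surjective _ q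
      have hx' : x ∈ ((J ⊔ Cb J : Subgroup G) : Set G) := hx
      rw [coe_mul_of_left_le_normalizer_right _ _
        (le_normalizer.trans (normalizer_le_normalizer_Cb J))] at hx'
      obtain ⟨j, hj, c, hc, rfl⟩ := hx'
      refine ⟨⟨j, hj⟩, QuotientGroup.eq.mpr ?_⟩
      show (j⁻¹ * (j * c) : G) ∈ Cb J
      rwa [inv_mul_cancel_left]
    have hk : (center (↥J ⧸ pPrimeCore 2 ↥J)).comap (bar 2 ↥J) ≤ σ.ker := by
      intro x hx
      refine MonoidHom.mem_ker.mpr ((QuotientGroup.eq_one_iff _).mpr ?_)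
      refine ⟨le_normalizer x.2, fun k hk => ?_⟩
      have h1 := mem_center_iff.mp (mem_comap.mp hx) (bar 2 ↥J ⟨k, hk⟩)
      refine ⟨x * ⟨k, hk⟩ * x⁻¹ * ⟨k, hk⟩⁻¹, (QuotientGroup.eq_one_iff _).mp ?_, rfl⟩
      rw [← QuotientGroup.mk'_apply, map_mul, map_mul, map_mul, map_inv, map_inv, ← h1]
      group
    calc Nat.card (↥N ⧸ (Cb J).subgroupOf N) = σ.ker.index := by
          rw [Subgroup.index_ker, MonoidHom.range_eq_top.mpr hσ, card_top]
      _ ≤ ((center (↥J ⧸ pPrimeCore 2 ↥J)).comap (bar 2 ↥J)).index :=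
          Nat.le_of_dvd (Nat.pos_of_ne_zero index_ne_zero_of_finite) (index_dvd_of_le hk)
      _ = sc J := by rw [index_comap_of_surjective _ (bar_surjective 2), index_eq_card, quot_card_eq_sc]
  have hlb : sc R ≤ Nat.card ρ.range := by
    rw [← Subgroup.index_ker, ← quot_card_eq_sc, ← index_eq_card,
      ← index_comap_of_surjective _ (bar_surjective 2)]
    exact Nat.le_of_dvd (Nat.pos_of_ne_zero index_ne_zero_of_finite)
      (index_dvd_of_le (map_le_iff_le_comap.mp hc))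
  have hρ : ρ.range = ⊤ := eq_top_of_le_card _ (by rw [hsc] at hlb; omega)
  haveI := hJqs.1
  let f : (↥J ⧸ pPrimeCore 2 ↥J) →* ↥J ⧸ pPrimeCore 2 ↥J :=
    QuotientGroup.map _ _
      { toFun := fun k => (⟨g * k * g⁻¹, (mem_normalizer_iff.mp hg k).mp k.2⟩ : ↥J)
        map_one' := Subtype.ext (by simp)
        map_mul' := fun a b => Subtype.ext (by simp [mul_assoc]) }
      (fun k hk => by
        have h1 := (mem_normalizer_iff.mp (normalizer_le_normalizer_Om J hg) _).mp ⟨k, hk, rfl⟩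
        exact (mem_Om_iff _).mp h1)
  refine ⟨hg, fun k hk => ?_⟩
  have hid := hom_eq_id_of_central f (fun q => ?_) (bar 2 ↥J ⟨k, hk⟩)
  · have h1 : (⟨g * k * g⁻¹ * k⁻¹, mul_mem ((mem_normalizer_iff.mp hg k).mp hk) (inv_mem hk)⟩ : ↥J)
        ∈ pPrimeCore 2 ↥J := by
      rw [← QuotientGroup.eq_one_iff]
      exact mul_inv_eq_one.mpr hid
    exact ⟨_, h1, rfl⟩
  obtain ⟨⟨j, hj⟩, rfl⟩ := bar_surjective 2 q
  obtain ⟨r, hr⟩ : π (inclusion le_sup_left (⟨j, hj⟩ : ↥J)) ∈ ρ.range := hρ ▸ mem_top _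
  have hr' : ((inclusion hR r : ↥N) : ↥N ⧸ (Cb J).subgroupOf N)
      = ((inclusion le_sup_left (⟨j, hj⟩ : ↥J) : ↥N) : ↥N ⧸ (Cb J).subgroupOf N) := hr
  have hc'' := QuotientGroup.eq.mp hr'
  have hc' : (r : G)⁻¹ * j ∈ Cb J := hc''
  have hgc := (mem_normalizer_iff.mp (normalizer_le_normalizer_Cb J hg) _).mp hc'
  have hdiff : g * j * g⁻¹ * j⁻¹ ∈ Cb J := by
    have e : g * j * g⁻¹ * j⁻¹ = r * ((g * ((r : G)⁻¹ * j) * g⁻¹) * ((r : G)⁻¹ * j)⁻¹) * (r : G)⁻¹ := by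
      have hr' : g * (r : G)⁻¹ = (r : G)⁻¹ * g := (show Commute g (r : G) from hgR r r.2).inv_right.eq
      calc g * j * g⁻¹ * j⁻¹
          = (r : G) * ((r : G)⁻¹ * g) * j * g⁻¹ * j⁻¹ := by group
        _ = (r : G) * (g * (r : G)⁻¹) * j * g⁻¹ * j⁻¹ := by rw [hr']
        _ = _ := by group
    rw [e]
    exact (mem_normalizer_iff.mp (normalizer_le_normalizer_Cb J (sup_Cb_le J (hR r.2))) _).mp
      (mul_mem hgc (inv_mem hc'))
  refine mem_center_iff.mpr fun q => ?_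
  obtain ⟨⟨k, hk⟩, rfl⟩ := bar_surjective 2 q
  have hm := mul_mem ((mem_normalizer_iff.mp hg j).mp hj) (inv_mem hj)
  show bar 2 ↥J ⟨k, hk⟩ * bar 2 ↥J ⟨g * j * g⁻¹ * j⁻¹, hm⟩ = bar 2 ↥J ⟨g * j * g⁻¹ * j⁻¹, hm⟩ * bar 2 ↥J ⟨k, hk⟩
  have h1 : bar 2 ↥J (⟨g * j * g⁻¹ * j⁻¹, hm⟩ * ⟨k, hk⟩ * ⟨g * j * g⁻¹ * j⁻¹, hm⟩⁻¹ * ⟨k, hk⟩⁻¹) = 1 := by
    rw [QuotientGroup.mk'_apply, QuotientGroup.eq_one_iff]
    exact (mem_Om_iff (p := 2) (L := J) _).mp (hdiff.2 k hk)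
  rw [map_mul, map_mul, map_mul, map_inv, map_inv, mul_inv_eq_one, mul_inv_eq_iff_eq_mul] at h1
  exact h1.symm

end CfsgLib.TwoCompFour
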