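import Cfsg.Agent.Lib.TwoCompFour.Basic
import Cfsg.Agent.Lib.ZStar.Main
import Cfsg.Agent.Lib.Comp.StandardMax

/-! Involutions acting on a `2`-component with one involution, and diagonal components. -/

set_option autoImplicit false
set_option linter.unusedSectionVars false

namespace CfsgLib.TwoCompFour

open Subgroup Cfsg CfsgLib.Comp
open scoped commutatorElement

universe u

variable {G : Type u} [Group G] [Finite G]

/-- An involution normalising `K` either centralizes `K̄` or inverts an element of order four of an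
invariant Sylow subgroup. -/
theorem INV {z t : G} {K Q : Subgroup G} (h : QT z K) (hQ : Syl K Q) (ht : orderOf t = 2)
    (htK : t ∈ normalizer (K : Set G)) (htQ : t ∈ normalizer (Q : Set G)) (htz : t * z = z * t) :
    t ∈ Cb K ∨ ∃ w ∈ Q, orderOf w = 4 ∧ t * w * t⁻¹ = w⁻¹ := by
  classical
  by_contra hcon
  push Not at hcon
  obtain ⟨hCb, hno⟩ := hcon
  have tt : t * t = 1 := sq_one_of_two ht
  -- `t` centralizes `Q`
  have hfix : ∀ q ∈ Q, orderOf q = 4 → t * q * t⁻¹ = q := by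
    intro q hq hq4
    set c := q⁻¹ * (t * q * t⁻¹) with hc
    have hcQ : c ∈ Q := mul_mem (inv_mem hq) ((mem_normalizer_iff.mp htQ q).mp hq)
    have hinv : t * c * t⁻¹ = c⁻¹ := by
      rw [hc, inv_of_two ht]
      simp only [mul_inv_rev, inv_inv, inv_of_two ht, mul_assoc]
      simp [tt]
    obtain ⟨k, hk⟩ := IsPGroup.iff_orderOf.mp hQ.two ⟨c, hcQ⟩
    rw [orderOf_mk] at hk
    rcases k with _ | _ | k
    · rw [pow_zero, orderOf_eq_one_iff, hc, inv_mul_eq_one] at hk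
      exact hk.symm
    · exfalso
      have := h.uniq c (hQ.le hcQ) (by rw [hk]; norm_num)
      rw [hc, inv_mul_eq_iff_eq_mul] at this
      exact hno q hq hq4 (by rw [this, h.four_inv (hQ.le hq) hq4])
    · exfalso
      refine hno (c ^ 2 ^ k) (pow_mem hcQ _) ?_ (by rw [← conj_pow, hinv, inv_pow])
      rw [orderOf_pow' c (by positivity), hk, Nat.gcd_eq_right (pow_dvd_pow 2 (by omega)),
        Nat.pow_div (by omega) two_pos, show k + 1 + 1 - k = 2 by omega]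
      rfl
  have hQt : ∀ q ∈ Q, q * t = t * q := fun q hq => by
    have h1 : Q ≤ cen t := (hQ.closure_four h).trans ((closure_le _).mpr fun x hx =>
      mem_cen.mpr (mul_inv_eq_iff_eq_mul.mp (hfix x hx.1 hx.2)).symm)
    exact mem_cen.mp (h1 hq)
  by_cases htmem : t ∈ K
  · exact hCb (h.uniq t htmem ht ▸ h.z_mem_Cb)
  set X := K ⊔ zpowers t with hX
  have hKX : K ≤ X := le_sup_left
  have htX : t ∈ X := le_sup_right (a := K) (mem_zpowers t)
  have hXK : X ≤ normalizer (K : Set G) := sup_le le_normalizer (zpowers_le.mpr htK)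
  have hcase : ∀ x ∈ X, x ∈ K ∨ x * t ∈ K := by
    intro x hx
    have hx' : x ∈ ((K ⊔ zpowers t : Subgroup G) : Set G) := hx
    rw [coe_mul_of_right_le_normalizer_left K _ (zpowers_le.mpr htK)] at hx'
    obtain ⟨k, hk, s, hs, rfl⟩ := hx'
    obtain ⟨i, rfl⟩ := mem_zpowers_iff.mp hs
    have ht2 : t ^ (2 : ℤ) = 1 := by rw [zpow_ofNat, sq, tt]
    rcases Int.even_or_odd i with ⟨r, rfl⟩ | ⟨r, rfl⟩
    · left; simpa [← two_mul, zpow_mul, ht2] using hk
    · right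
      simpa [zpow_add, zpow_mul, ht2, mul_assoc, tt] using hk
  have hzX : ∀ x ∈ X, x * z = z * x := fun x hx =>
    mul_inv_eq_iff_eq_mul.mp (h.uniq _ ((mem_normalizer_iff.mp (hXK hx) z).mp h.mem)
      (by rw [orderOf_conj', h.inv]))
  let t' : ↥X := ⟨t, htX⟩
  have ht' : orderOf t' = 2 := by rw [orderOf_mk, ht]
  have hBX : Q ⊔ zpowers t ≤ X := sup_le (hQ.le.trans hKX) (zpowers_le.mpr htX)
  have hB : IsPGroup 2 ↥(Q ⊔ zpowers t) := hQ.two.to_sup_of_normal_left'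
    (IsPGroup.of_card (n := 1) (by rw [Nat.card_zpowers, ht, pow_one])) (zpowers_le.mpr htQ)
  obtain ⟨P, hP⟩ := (hB.of_equiv (subgroupOfEquivOfLe hBX).symm).exists_le_sylow
  have hQP : Q ≤ (P : Subgroup ↥X).map X.subtype := fun q hq =>
    ⟨⟨q, hKX (hQ.le hq)⟩, hP (le_sup_left (b := zpowers t) hq), rfl⟩
  have htP : t ∈ (P : Subgroup ↥X).map X.subtype :=
    ⟨t', hP (le_sup_right (a := Q) (mem_zpowers t)), rfl⟩
  have hPK : (P : Subgroup ↥X).map X.subtype ⊓ K = Q :=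
    hQ.eq_of_le (le_inf hQP hQ.le) inf_le_right ((P.2.map _).to_le inf_le_left)
  have hPt : ∀ x ∈ (P : Subgroup ↥X), (x : G) * t = t * x := by
    intro x hx
    have hxP : (x : G) ∈ (P : Subgroup ↥X).map X.subtype := ⟨x, hx, rfl⟩
    rcases hcase x x.2 with hK' | hK'
    · exact hQt _ (hPK.le (mem_inf.mpr ⟨hxP, hK'⟩))
    · have h1 := hQt _ (hPK.le (mem_inf.mpr ⟨mul_mem hxP htP, hK'⟩))
      calc (x : G) * t = x * t * (t * t) := by rw [tt, mul_one]
        _ = x * t * t * t := by group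
        _ = t * (x * t) * t := by rw [h1]
        _ = t * x * (t * t) := by group
        _ = t * x := by rw [tt, mul_one]
  have hiso : IsIsolated t' := by
    intro g hg
    set v := g * t' * g⁻¹ with hv
    have hvo : orderOf (v : G) = 2 := by rw [orderOf_coe, hv, orderOf_conj', ht']
    have hvK : (v : G) ∉ K := fun hv' => htmem ((mem_normalizer_iff.mp (hXK g.2) t).mpr hv')
    have hvt : (v : G) * t ∈ K := (hcase v v.2).resolve_left hvK
    have hc : t * (v : G) = v * t := congrArg Subtype.val hg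
    have hsq : ((v : G) * t) ^ 2 = 1 := by
      rw [sq, ← mul_assoc, mul_assoc (v : G) t v, hc, ← mul_assoc, sq_one_of_two hvo, one_mul, tt]
    rcases eq_or_ne ((v : G) * t) 1 with h1 | h1
    · refine Subtype.ext ?_
      show (v : G) = t
      rw [mul_eq_one_iff_eq_inv.mp h1, inv_of_two ht]
    exfalso
    have hvz : (v : G) = z * t := by
      have := h.uniq _ hvt (orderOf_eq_prime hsq h1)
      calc (v : G) = v * t * t := by rw [mul_assoc, tt, mul_one]
        _ = z * t := by rw [this]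
    have hx : t' ∈ Subgroup.centralizer ((P : Subgroup ↥X) : Set ↥X) :=
      mem_centralizer_iff.mpr fun x hx => Subtype.ext (hPt x hx)
    have hy : (g⁻¹)⁻¹ * t' * g⁻¹ ∈ Subgroup.centralizer ((P : Subgroup ↥X) : Set ↥X) := by
      rw [inv_inv]
      refine mem_centralizer_iff.mpr fun x hx => Subtype.ext ?_
      show (x : G) * (v : G) = (v : G) * x
      rw [hvz, ← mul_assoc, hzX x x.2, mul_assoc, hPt x hx, mul_assoc]
    obtain ⟨n, hn, hne⟩ := Sylow.conj_eq_normalizer_conj_of_mem_centralizer P t' g⁻¹ hx hy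
    rw [inv_inv] at hne
    set m : G := ((n⁻¹ : ↥X) : G) with hm
    have hmt : m * t * m⁻¹ = z * t := by
      rw [← hvz]
      have := congrArg Subtype.val hne
      rw [hm, hv]
      simpa using this.symm
    have hmz : m * z * m⁻¹ = z := by rw [hzX m (n⁻¹).2, mul_inv_cancel_right]
    have hstep : ∀ r : ℕ, m ^ (2 * r) * t * (m ^ (2 * r))⁻¹ = t := by
      intro r
      induction r with
      | zero => simp
      | succ r ih =>
        have h2 : m * (z * t) * m⁻¹ = t := by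
          rw [show m * (z * t) * m⁻¹ = (m * z * m⁻¹) * (m * t * m⁻¹) by group, hmz, hmt, ← mul_assoc,
            sq_one_of_two h.inv, one_mul]
        calc m ^ (2 * (r + 1)) * t * (m ^ (2 * (r + 1)))⁻¹
            = m * (m * (m ^ (2 * r) * t * (m ^ (2 * r))⁻¹) * m⁻¹) * m⁻¹ := by
              rw [show 2 * (r + 1) = 2 * r + 1 + 1 by ring, pow_succ', pow_succ']; group
          _ = t := by rw [ih, hmt, h2]
    set o := orderOf (n⁻¹ : ↥X) / 2 ^ (orderOf (n⁻¹ : ↥X)).factorization 2 with ho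
    obtain ⟨r, hr⟩ : Odd o := by
      rw [← Nat.coprime_two_left]
      exact Nat.coprime_ordCompl Nat.prime_two (orderOf_pos _).ne'
    have hoP : (n⁻¹ : ↥X) ^ o ∈ (P : Subgroup ↥X) := by
      have hp : IsPGroup 2 ↥(zpowers ((n⁻¹ : ↥X) ^ o)) := by
        refine IsPGroup.of_card (n := (orderOf (n⁻¹ : ↥X)).factorization 2) ?_
        rw [Nat.card_zpowers, orderOf_pow' _ (by omega),
          Nat.gcd_eq_right (Nat.div_dvd_of_dvd (Nat.ordProj_dvd _ 2)),
          Nat.div_div_self (Nat.ordProj_dvd _ 2) (orderOf_pos _).ne']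
      exact (mem_inf.mp ((hp.inf_normalizer_sylow P).le
        (mem_inf.mpr ⟨mem_zpowers _, pow_mem (inv_mem hn) _⟩))).2
    have hfin : m ^ o * t * (m ^ o)⁻¹ = t := by
      have := hPt _ hoP
      rw [SubgroupClass.coe_pow] at this
      rw [this, mul_inv_cancel_right]
    rw [hr, pow_succ'] at hfin
    have : m * t * m⁻¹ = t := by
      conv_lhs => rw [← hstep r]
      rw [show m * (m ^ (2 * r) * t * (m ^ (2 * r))⁻¹) * m⁻¹
        = m * m ^ (2 * r) * t * (m * m ^ (2 * r))⁻¹ by group]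
      exact hfin
    rw [hmt, mul_eq_right] at this
    have := h.inv
    simp_all
  refine hCb ⟨htK, fun k hk => ?_⟩
  have hO := CfsgLib.ZStar.commutator_mem ht' hiso (⟨k, hKX hk⟩ : ↥X)
  refine le_Om (W := K ⊓ (pPrimeCore 2 ↥X).map X.subtype) inf_le_left ?_ ?_
    (mem_inf.mpr ⟨mul_mem ((mem_normalizer_iff.mp htK k).mp hk) (inv_mem hk), _, hO, rfl⟩)
  · intro l hl
    refine mem_normalizer_of_maps fun x hx => mem_inf.mpr ?_
    obtain ⟨hxK, y, hy, rfl⟩ := mem_inf.mp hx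
    exact ⟨mul_mem (mul_mem hl hxK) (inv_mem hl), ⟨⟨l, hKX hl⟩ * y * ⟨l, hKX hl⟩⁻¹,
      (inferInstance : (pPrimeCore 2 ↥X).Normal).conj_mem y hy _, rfl⟩⟩
  · refine Nat.Coprime.coprime_dvd_left (card_dvd_of_le inf_le_right) ?_
    rw [Subgroup.card_map_of_injective X.subtype_injective]; exact card_pPrimeCore_coprime 2

/-- The diagonal component of `C(z) ∩ C(t)` in `J × Jᵗ`. -/
theorem DIAG {z t : G} {J : Subgroup G} (h : QT z J) (hJ : IsPC 2 J (cen z)) (ht : orderOf t = 2)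
    (htz : t * z = z * t) (hne : cj t J ≠ J) :
    ∃ L : Subgroup G, IsPC 2 L (cen z ⊓ cen t) ∧ sc L = sc J ∧
      ∀ a ∈ J, (∃ k, a ^ 2 ^ k = 1) → a * (t * a * t⁻¹) = t * a * t⁻¹ * a →
        a * (t * a * t⁻¹) ∈ L := by
  classical
  set H := cen z with hH
  have htH : t ∈ H := mem_cen.mpr htz
  have hJ' : IsPC 2 (cj t J) H := by
    have h1 := hJ.conj t
    have e : cj t H = H := by
      ext x
      exact ⟨fun ⟨y, hy, e⟩ => e ▸ mul_mem (mul_mem htH hy) (inv_mem htH),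
        fun hx => ⟨t⁻¹ * x * t, mul_mem (mul_mem (inv_mem htH) hx) htH,
          show t * (t⁻¹ * x * t) * t⁻¹ = x by group⟩⟩
    rwa [e] at h1
  have hJH : ∀ k ∈ J, k ∈ H := fun k hk => hJ.le hk
  have hcH : ∀ k ∈ J, t * k * t⁻¹ ∈ H := fun k hk => mul_mem (mul_mem htH (hJH k hk)) (inv_mem htH)
  let f := bar 2 ↥H
  have hf0 : ∀ a b : ↥H, ((a * b⁻¹ : ↥H) : G) ∈ (pPrimeCore 2 ↥H).map H.subtype → f a = f b := by
    intro a b hab
    obtain ⟨w, hw, e⟩ := hab
    have e' : w = a * b⁻¹ := Subtype.ext e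
    rw [← mul_inv_eq_one, ← map_inv, ← map_mul, ← e']
    exact (QuotientGroup.eq_one_iff w).mpr hw
  have hcom : ∀ j (hj : j ∈ J), ∀ k (hk : k ∈ J),
      f ⟨j, hJH j hj⟩ * f ⟨t * k * t⁻¹, hcH k hk⟩ = f ⟨t * k * t⁻¹, hcH k hk⟩ * f ⟨j, hJH j hj⟩ := by
    intro j hj k hk
    rw [← map_mul, ← map_mul]
    refine hf0 _ _ ?_
    have := comm_mem_core hJ hJ' (Ne.symm hne) hj (⟨k, hk, rfl⟩ : t * k * t⁻¹ ∈ cj t J)
    simpa [mul_assoc] using this
  let δ : ↥J →* ↥H ⧸ pPrimeCore 2 ↥H :=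
    { toFun := fun k => f ⟨k, hJH k k.2⟩ * f ⟨t * k * t⁻¹, hcH k k.2⟩
      map_one' := by
        rw [← map_mul, ← map_one f]
        congr 1
        exact Subtype.ext (by simp)
      map_mul' := fun a b => by
        have e1 : (⟨((a * b : ↥J) : G), hJH _ (a * b).2⟩ : ↥H) = ⟨a, hJH a a.2⟩ * ⟨b, hJH b b.2⟩ :=
          Subtype.ext rfl
        have e2 : (⟨t * ((a * b : ↥J) : G) * t⁻¹, hcH _ (a * b).2⟩ : ↥H)
            = ⟨t * a * t⁻¹, hcH a a.2⟩ * ⟨t * b * t⁻¹, hcH b b.2⟩ := by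
          apply Subtype.ext
          simp [mul_assoc]
        simp only [e1, e2, map_mul]
        exact Commute.mul_mul_mul_comm (hcom b b.2 a a.2) _ _ }
  set C0 := H ⊓ cen t with hC0
  set A := pLayerOf 2 H ⊓ C0 with hA
  set D0 := A ⊓ (δ.range.comap f).map H.subtype with hD0
  have hAJ : A ≤ normalizer (J : Set G) := inf_le_left.trans (layer_le_normalizer hJ)
  have hD0A : A ≤ normalizer (D0 : Set G) := by
    intro a ha
    refine mem_normalizer_of_maps fun x hx => ?_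
    obtain ⟨hxA, ⟨y, hy, rfl⟩⟩ := mem_inf.mp hx
    have haH : a ∈ H := (mem_inf.mp (mem_inf.mp ha).2).1
    have hat : a * t = t * a := mem_cen.mp (mem_inf.mp (mem_inf.mp ha).2).2
    refine mem_inf.mpr ⟨mul_mem (mul_mem ha hxA) (inv_mem ha), ⟨⟨a, haH⟩ * y * ⟨a, haH⟩⁻¹, ?_, rfl⟩⟩
    obtain ⟨⟨k, hk⟩, hk'⟩ := MonoidHom.mem_range.mp (mem_comap.mp hy)
    have hk2 : a * k * a⁻¹ ∈ J := (mem_normalizer_iff.mp (hAJ ha) k).mp hk
    refine mem_comap.mpr (MonoidHom.mem_range.mpr ⟨⟨a * k * a⁻¹, hk2⟩, ?_⟩)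
    rw [map_mul f, map_mul f, ← hk', map_inv]
    show f _ * f _ = f _ * (f _ * f _) * (f _)⁻¹
    rw [← map_inv, ← map_mul, ← map_mul, ← map_mul, ← map_mul]
    congr 1
    apply Subtype.ext
    show a * k * a⁻¹ * (t * (a * k * a⁻¹) * t⁻¹) = a * (k * (t * k * t⁻¹)) * a⁻¹
    have hat' : a⁻¹ * t⁻¹ = t⁻¹ * a⁻¹ := by rw [← mul_inv_rev, ← mul_inv_rev, hat]
    calc a * k * a⁻¹ * (t * (a * k * a⁻¹) * t⁻¹) = a * k * a⁻¹ * (t * a) * k * (a⁻¹ * t⁻¹) := by group
      _ = a * k * a⁻¹ * (a * t) * k * (t⁻¹ * a⁻¹) := by rw [hat, hat']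
      _ = _ := by group
  set L := pEl 2 D0 with hL
  have hLD : L ≤ D0 := pEl_le _
  have hD0C : D0 ≤ C0 := inf_le_left.trans inf_le_right
  have hsub : (L.subgroupOf C0).IsSubnormal := by
    have hAn : C0 ≤ normalizer (A : Set G) := fun c hc => mem_normalizer_of_maps fun x hx =>
      mem_inf.mpr ⟨(mem_normalizer_iff.mp (le_normalizer_layer H (mem_inf.mp hc).1) x).mp (mem_inf.mp hx).1,
        mul_mem (mul_mem hc (mem_inf.mp hx).2) (inv_mem hc)⟩
    have hAN : (A.subgroupOf C0).Normal := (normal_subgroupOf_iff_le_normalizer inf_le_right).mpr hAn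
    refine Subgroup.IsSubnormal.step _ _ (Subgroup.comap_mono (hLD.trans inf_le_left))
      (Subgroup.Normal.isSubnormal hAN) ?_
    refine (normal_subgroupOf_iff_le_normalizer (Subgroup.comap_mono (hLD.trans inf_le_left))).mpr
      fun c hc => ?_
    refine mem_normalizer_of_maps fun x hx => ?_
    exact (mem_normalizer_iff.mp ((hD0A.trans (normalizer_le_normalizer_pEl D0)) hc) x).mp hx
  have hδL : ∀ k (hk : k ∈ J), (∃ n, k ^ 2 ^ n = 1) →
      ∃ x, ∃ hx : x ∈ L, f ⟨x, (mem_inf.mp (hD0C (hLD hx))).1⟩ = δ ⟨k, hk⟩ := by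
    intro k hk ⟨n, hn⟩
    set x0 := k * (t * k * t⁻¹)
    have hx0L : x0 ∈ pLayerOf 2 H := mul_mem (le_layer hJ hk) (le_layer hJ' ⟨k, hk, rfl⟩)
    set W0 := pLayerOf 2 H ⊓ (pPrimeCore 2 ↥H).map H.subtype
    have hW0 : (Nat.card ↥W0).Coprime 2 := Nat.Coprime.coprime_dvd_left (card_dvd_of_le inf_le_right)
      (by rw [Subgroup.card_map_of_injective H.subtype_injective]; exact card_pPrimeCore_coprime 2)
    have hxy : t * (x0⁻¹ * t * x0) ∈ W0 := by
      refine mem_inf.mpr ⟨?_, ?_⟩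
      · have h1 := (mem_normalizer_iff.mp (le_normalizer_layer H htH) _).mp (inv_mem hx0L)
        have h2 := mul_mem h1 hx0L
        rw [inv_of_two ht] at h2
        simpa [mul_assoc] using h2
      · refine ⟨(⟨t * x0 * t⁻¹, mul_mem (mul_mem htH (layer_le H hx0L)) (inv_mem htH)⟩ : ↥H)⁻¹
          * ⟨x0, layer_le H hx0L⟩, ?_, ?_⟩
        · refine QuotientGroup.eq.mp ?_
          show f _ = f _
          have e1 : (⟨t * x0 * t⁻¹, mul_mem (mul_mem htH (layer_le H hx0L)) (inv_mem htH)⟩ : ↥H)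
              = ⟨t * k * t⁻¹, hcH k hk⟩ * ⟨k, hJH k hk⟩ := by
            apply Subtype.ext
            show t * x0 * t⁻¹ = t * k * t⁻¹ * k
            simp only [x0, inv_of_two ht, mul_assoc, sq_one_of_two ht]
            simp [← mul_assoc t t, sq_one_of_two ht]
          have e2 : (⟨x0, layer_le H hx0L⟩ : ↥H) = ⟨k, hJH k hk⟩ * ⟨t * k * t⁻¹, hcH k hk⟩ := rfl
          rw [e1, e2, map_mul, map_mul, hcom k hk k hk]
        · show (t * x0 * t⁻¹)⁻¹ * x0 = t * (x0⁻¹ * t * x0)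
          simp only [mul_inv_rev, inv_of_two ht, mul_assoc]
    obtain ⟨c, hcW, hc⟩ := exists_conj_of_congr hW0 ht
      (by
        have := orderOf_conj' x0⁻¹ t
        rw [inv_inv] at this
        rw [this, ht]) hxy
    have hyt : x0 * c * t = t * (x0 * c) :=
      calc x0 * c * t = x0 * (c * t * c⁻¹) * c := by group
        _ = t * (x0 * c) := by rw [hc]; group
    have hyH : x0 * c ∈ H := mul_mem (layer_le H hx0L) (layer_le H (mem_inf.mp hcW).1)
    have hfy : f ⟨x0 * c, hyH⟩ = δ ⟨k, hk⟩ := by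
      obtain ⟨w, hw, hwc⟩ := (mem_inf.mp hcW).2
      have e : (⟨x0 * c, hyH⟩ : ↥H) = ⟨k, hJH k hk⟩ * ⟨t * k * t⁻¹, hcH k hk⟩ * w :=
        Subtype.ext (by show x0 * c = x0 * (w : G); rw [← hwc]; rfl)
      rw [e, map_mul, map_mul, show f w = 1 from (QuotientGroup.eq_one_iff w).mpr hw, mul_one]
      rfl
    have hyD : x0 * c ∈ D0 := mem_inf.mpr ⟨mem_inf.mpr ⟨mul_mem hx0L (mem_inf.mp hcW).1,
      mem_inf.mpr ⟨hyH, mem_cen.mpr hyt⟩⟩, ⟨_, mem_comap.mpr (MonoidHom.mem_range.mpr ⟨_, hfy.symm⟩), rfl⟩⟩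
    have hmem : δ ⟨k, hk⟩ ∈ (D0.subgroupOf H).map f := ⟨⟨_, hyH⟩, hyD, hfy⟩
    obtain ⟨⟨x, hxH⟩, hxD, ⟨j, hj⟩, hfx⟩ := exists_lift (p := 2) f _ hmem (k := n)
      (by rw [← map_pow, show (⟨k, hk⟩ : ↥J) ^ 2 ^ n = 1 from Subtype.ext hn, map_one])
    exact ⟨x, subset_closure ⟨hxD, j, congrArg Subtype.val hj⟩, hfx⟩
  -- the homomorphism `L → D`
  let g : ↥L →* ↥δ.range :=
    { toFun := fun x => ⟨f ⟨x, (mem_inf.mp (hD0C (hLD x.2))).1⟩, by
        obtain ⟨y, hy, e⟩ := (mem_inf.mp (hLD x.2)).2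
        rw [show (⟨(x : G), _⟩ : ↥H) = y from Subtype.ext e.symm]
        exact hy⟩
      map_one' := Subtype.ext (map_one f)
      map_mul' := fun a b => Subtype.ext (map_mul f ⟨a, _⟩ ⟨b, _⟩) }
  have hg : Function.Surjective g := by
    rintro ⟨q, k, rfl⟩
    have hle : J ≤ ((g.range.comap δ.rangeRestrict).map J.subtype) := by
      conv_lhs => rw [← h.pel]
      rw [pEl, closure_le]
      rintro j ⟨hj, n, hn⟩
      obtain ⟨x, hx, e⟩ := hδL j hj ⟨n, hn⟩
      exact ⟨⟨j, hj⟩, MonoidHom.mem_range.mpr ⟨⟨x, hx⟩, Subtype.ext e⟩, rfl⟩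
    obtain ⟨j, hj, e⟩ := hle k.2
    obtain ⟨x, hx⟩ := MonoidHom.mem_range.mp (mem_comap.mp hj)
    exact ⟨x, by rw [hx, show j = k from Subtype.ext e]; rfl⟩
  have hgker : g.ker ≤ pPrimeCore 2 ↥L := by
    refine le_pPrimeCore (Nat.Coprime.coprime_dvd_left ?_ (card_pPrimeCore_coprime (p := 2) (G := ↥H)))
    let ι : g.ker →* pPrimeCore 2 ↥H :=
      MonoidHom.mk' (fun x => ⟨⟨((x : ↥L) : G), (mem_inf.mp (hD0C (hLD (x : ↥L).2))).1⟩,
        (QuotientGroup.eq_one_iff _).mp (congrArg Subtype.val (MonoidHom.mem_ker.mp x.2))⟩)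
        fun a b => rfl
    refine Subgroup.card_dvd_of_injective ι fun a b e => Subtype.ext (Subtype.ext ?_)
    exact congrArg (fun w : pPrimeCore 2 ↥H => ((w : ↥H) : G)) e
  -- `D ≅ J̄ / Z(J̄)`
  have hOm : pPrimeCore 2 ↥J ≤ δ.ker := by
    intro k hk
    have h1 : (k : G) ∈ (pPrimeCore 2 ↥H).map H.subtype := by
      have : (k : G) ∈ Om 2 J := ⟨k, hk, rfl⟩
      rw [hJ.Om_eq] at this
      exact (mem_inf.mp this).2
    have h2 : f ⟨k, hJH k k.2⟩ = 1 := by
      rw [← map_one f]; exact hf0 _ _ (by simpa using h1)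
    have h3 : f ⟨t * k * t⁻¹, hcH k k.2⟩ = 1 := by
      rw [show (⟨t * k * t⁻¹, hcH k k.2⟩ : ↥H) = ⟨t, htH⟩ * ⟨k, hJH k k.2⟩ * ⟨t, htH⟩⁻¹ from rfl,
        map_mul, map_mul, map_inv, h2, mul_one, mul_inv_cancel]
    show f _ * f _ = 1
    rw [h2, h3, one_mul]
  let δb : ↥J ⧸ pPrimeCore 2 ↥J →* ↥δ.range :=
    QuotientGroup.lift _ δ.rangeRestrict (by rwa [MonoidHom.ker_rangeRestrict])
  have hδb : Function.Surjective δb := fun q => by
    obtain ⟨k, rfl⟩ := δ.rangeRestrict_surjective q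
    exact ⟨bar 2 ↥J k, rfl⟩
  have hker : δb.ker = center (↥J ⧸ pPrimeCore 2 ↥J) := by
    have hz : center (↥J ⧸ pPrimeCore 2 ↥J) ≤ δb.ker := by
      intro q hq
      rcases h.oneInv.mem_center_imp hq with rfl | rfl
      · exact one_mem _
      · refine MonoidHom.mem_ker.mpr (Subtype.ext ?_)
        show f _ * f _ = 1
        rw [← map_mul, ← map_one f]
        congr 1
        apply Subtype.ext
        show z * (t * z * t⁻¹) = 1
        rw [htz, mul_inv_cancel_right, sq_one_of_two h.inv]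
    rcases quasisimple_normal_le_center_or_eq_top h.qs δb.ker (hN := MonoidHom.normal_ker δb) with e | e
    · exact le_antisymm e hz
    exfalso
    obtain ⟨S, -, -, hS, hSy⟩ := exists_sylow_in (H := H) (B := ⊥) bot_le IsPGroup.of_bot
    obtain ⟨a, ha, ha4⟩ := (hSy J hJ).exists_four h
    have haJ : a ∈ J := (hSy J hJ).le ha
    have hab : a ∈ Cb J := by
      refine ⟨le_normalizer haJ, fun k hk => ?_⟩
      rw [hJ.Om_eq]
      refine mem_inf.mpr ⟨mul_mem (mul_mem (mul_mem haJ hk) (inv_mem haJ)) (inv_mem hk), ?_⟩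
      have h1 : δ ⟨a, haJ⟩ = 1 :=
        congrArg Subtype.val (MonoidHom.mem_ker.mp (e.ge (mem_top (bar 2 ↥J ⟨a, haJ⟩))))
      have h2 : f ⟨a, hJH a haJ⟩ = (f ⟨t * a * t⁻¹, hcH a haJ⟩)⁻¹ := mul_eq_one_iff_eq_inv.mp h1
      have h3 : f ⟨a, hJH a haJ⟩ * f ⟨k, hJH k hk⟩ = f ⟨k, hJH k hk⟩ * f ⟨a, hJH a haJ⟩ := by
        rw [h2]
        exact (show Commute (f ⟨k, hJH k hk⟩) _ from hcom k hk a haJ).inv_right.eq.symm
      have h4 : (⟨a, hJH a haJ⟩ * ⟨k, hJH k hk⟩ * ⟨a, hJH a haJ⟩⁻¹ * ⟨k, hJH k hk⟩⁻¹ : ↥H)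
          ∈ pPrimeCore 2 ↥H := by
        rw [← QuotientGroup.eq_one_iff, ← QuotientGroup.mk'_apply, map_mul, map_mul, map_mul, map_inv,
          map_inv]
        show f _ * f _ * (f _)⁻¹ * (f _)⁻¹ = 1
        rw [h3]; group
      exact ⟨_, h4, rfl⟩
    have := h.not_Cb haJ (two_el_of_four ha4) hab
    omega
  let eS : (↥J ⧸ pPrimeCore 2 ↥J) ⧸ center (↥J ⧸ pPrimeCore 2 ↥J) ≃* ↥δ.range :=
    (QuotientGroup.quotientMulEquivOfEq hker.symm).trans (QuotientGroup.quotientKerEquivOfSurjective δb hδb)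
  obtain ⟨eL⟩ := exists_quotCoreEquiv (eS.symm.toMonoidHom.comp g) (eS.symm.surjective.comp hg)
    (fun x hx => hgker (MonoidHom.mem_ker.mpr (eS.symm.injective (by rw [map_one]; exact hx))))
  let eL' := eL.trans ((QuotientGroup.quotientMulEquivOfEq h.oneInv.quot_core).trans QuotientGroup.quotientBot)
  have hsimple : IsQuasisimple ((↥J ⧸ pPrimeCore 2 ↥J) ⧸ center (↥J ⧸ pPrimeCore 2 ↥J)) := by
    haveI := h.qs.2
    haveI : Nontrivial ((↥J ⧸ pPrimeCore 2 ↥J) ⧸ center (↥J ⧸ pPrimeCore 2 ↥J)) := IsSimpleGroup.toNontrivial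
    exact isQuasisimple_quotient (QuotientGroup.mk' _) (QuotientGroup.mk'_surjective _) h.qs
  refine ⟨L, ⟨hLD.trans hD0C, hsub, pEl_idem _, isQuasisimple_of_equiv eL'.symm hsimple⟩, ?_, ?_⟩
  · rw [sc_eq_of_equiv eL', h.oneInv.quot_center, card_bot, Nat.div_one, quot_card_eq_sc]
  · intro a ha ⟨n, hn⟩ hcomm
    set b := t * a * t⁻¹ with hb
    have hbL : b ∈ pLayerOf 2 H := le_layer hJ' ⟨a, ha, rfl⟩
    have h2 : t * b * t⁻¹ = a := by
      rw [hb, inv_of_two ht, ← mul_assoc, ← mul_assoc, sq_one_of_two ht, one_mul, mul_assoc,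
        sq_one_of_two ht, mul_one]
    have het : a * b * t = t * (a * b) := by
      refine (mul_inv_eq_iff_eq_mul.mp ?_).symm
      rw [show t * (a * b) * t⁻¹ = (t * a * t⁻¹) * (t * b * t⁻¹) by group, h2]
      exact hcomm.symm
    have heH : a * b ∈ H := layer_le H (mul_mem (le_layer hJ ha) hbL)
    refine subset_closure ⟨mem_inf.mpr ⟨mem_inf.mpr ⟨mul_mem (le_layer hJ ha) hbL,
      mem_inf.mpr ⟨heH, mem_cen.mpr het⟩⟩, ⟨⟨a * b, heH⟩, ?_, rfl⟩⟩, n, ?_⟩
    · exact mem_comap.mpr (MonoidHom.mem_range.mpr ⟨⟨a, ha⟩, (map_mul f ⟨a, _⟩ ⟨b, _⟩).symm⟩)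
    · rw [(show Commute a b from hcomm).mul_pow, hn, one_mul, hb, conj_pow, hn, mul_one, mul_inv_cancel]

end CfsgLib.TwoCompFour
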