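import Cfsg.Agent.Lib.TwoCompFour.Fusion

/-! If `z(J)` normalises `K` then `z(K)` normalises `J`. -/

set_option autoImplicit false
set_option linter.unusedSectionVars false

namespace CfsgLib.TwoCompFour

open Subgroup Cfsg CfsgLib.Comp

universe u

variable {G : Type u} [Group G] [Finite G]

theorem cj_eq_of_mem_normalizer {L : Subgroup G} {g : G} (h : g ∈ normalizer (L : Set G)) : cj g L = L := by
  ext x
  constructor
  · rintro ⟨w, hw, rfl⟩
    exact (mem_normalizer_iff.mp h w).mp hw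
  · intro hx
    refine ⟨g⁻¹ * x * g, ?_, show g * (g⁻¹ * x * g) * g⁻¹ = x by group⟩
    have := (mem_normalizer_iff.mp (inv_mem h) x).mp hx
    rwa [inv_inv] at this

theorem mem_normalizer_of_cj_eq {L : Subgroup G} {g : G} (h : cj g L = L) : g ∈ normalizer (L : Set G) :=
  mem_normalizer_of_maps fun x hx => h.le ⟨x, hx, rfl⟩

theorem mem_normalizer_cj {L : Subgroup G} {g x : G} (h : x ∈ normalizer (L : Set G)) :
    g * x * g⁻¹ ∈ normalizer (cj g L : Set G) := by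
  refine mem_normalizer_of_maps ?_
  rintro _ ⟨w, hw, rfl⟩
  refine ⟨x * w * x⁻¹, (mem_normalizer_iff.mp h w).mp hw, ?_⟩
  show g * (x * w * x⁻¹) * g⁻¹ = g * x * g⁻¹ * (g * w * g⁻¹) * (g * x * g⁻¹)⁻¹
  group

theorem conj_mem_cj (g : G) {L : Subgroup G} {x : G} (hx : x ∈ L) : g * x * g⁻¹ ∈ cj g L := ⟨x, hx, rfl⟩

theorem cj_cen (g t : G) : cj g (cen t) = cen (g * t * g⁻¹) := by
  ext x
  constructor
  · rintro ⟨w, hw, rfl⟩
    rw [mem_cen]
    show g * w * g⁻¹ * (g * t * g⁻¹) = g * t * g⁻¹ * (g * w * g⁻¹)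
    calc g * w * g⁻¹ * (g * t * g⁻¹) = g * (w * t) * g⁻¹ := by group
      _ = g * (t * w) * g⁻¹ := by rw [mem_cen.mp hw]
      _ = _ := by group
  · intro hx
    refine ⟨g⁻¹ * x * g, mem_cen.mpr ?_, show g * (g⁻¹ * x * g) * g⁻¹ = x by group⟩
    calc g⁻¹ * x * g * t = g⁻¹ * (x * (g * t * g⁻¹)) * g := by group
      _ = g⁻¹ * ((g * t * g⁻¹) * x) * g := by rw [mem_cen.mp hx]
      _ = _ := by group

theorem cj_inf (g : G) (A B : Subgroup G) : cj g (A ⊓ B) = cj g A ⊓ cj g B :=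
  map_inf _ _ _ (MulAut.conj g).injective

/-- Conjugation inside `H` permutes the components of `H`. -/
theorem isPC_conj_mem {L H : Subgroup G} (hL : IsPC 2 L H) {g : G} (hg : g ∈ H) : IsPC 2 (cj g L) H := by
  have h1 := hL.conj g
  rwa [cj_eq_of_mem_normalizer (le_normalizer hg)] at h1

theorem comm_conj {g a b : G} (h : a * b = b * a) :
    (g * a * g⁻¹) * (g * b * g⁻¹) = (g * b * g⁻¹) * (g * a * g⁻¹) := by
  calc (g * a * g⁻¹) * (g * b * g⁻¹) = g * (a * b) * g⁻¹ := by group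
    _ = g * (b * a) * g⁻¹ := by rw [h]
    _ = _ := by group

theorem isPGroup_zpowers {x : G} (h : ∃ k, x ^ 2 ^ k = 1) : IsPGroup 2 ↥(zpowers x) :=
  CfsgLib.Comp.zpowers_isPGroup h.choose_spec

/-- An involution normalising `J` centralizes `z`. -/
theorem QT.comm_of_normalizer {z x : G} {J : Subgroup G} (h : QT z J) (hx : x ∈ normalizer (J : Set G)) :
    x * z = z * x :=
  mul_inv_eq_iff_eq_mul.mp
    (h.uniq _ ((mem_normalizer_iff.mp hx z).mp h.mem) (by rw [orderOf_conj', h.inv]))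

/-- Part (ii). -/
theorem partA {zJ zK : G} {J K : Subgroup G} (hJ : QT zJ J) (hJc : IsPC 2 J (cen zJ)) (hK : QT zK K)
    (hKc : IsPC 2 K (cen zK)) (hsc : sc J = sc K) (hn : zJ ∈ normalizer (K : Set G)) :
    zK ∈ normalizer (J : Set G) := by
  have hcomm : zJ * zK = zK * zJ := hK.comm_of_normalizer hn
  by_cases hCb : zJ ∈ Cb K
  · obtain ⟨hP, hPQ, -, -⟩ := hK.fix hKc hJ.inv hCb hcomm.symm
    have := balance (s := zJ) (t := zK) hK.inv hcomm.symm (by rwa [inf_comm] at hP)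
    exact layer_le_normalizer hJc (this hPQ.mem)
  by_contra hne
  have hzKM : zK ∈ cen zJ := mem_cen.mpr hcomm.symm
  set J' := cj zK J
  have hJ' : IsPC 2 J' (cen zJ) := isPC_conj_mem hJc hzKM
  have hJne : J ≠ J' := fun e => hne (mem_normalizer_of_cj_eq e.symm)
  obtain ⟨S, hBS, hSM, hS, hSy⟩ := exists_sylow_in (H := cen zJ) (B := zpowers zK)
    (zpowers_le.mpr hzKM) (isPGroup_zpowers (two_el_of_two hK.inv))
  have hQ := hSy J hJc
  have hzKS : zK ∈ S := hBS (mem_zpowers zK)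
  obtain ⟨a, haQ, ha4⟩ := hQ.exists_four hJ
  obtain ⟨u, huQ, hu4, hua⟩ := hQ.exists_inverter hJ haQ ha4
  obtain ⟨haS, haJ⟩ := mem_inf.mp haQ
  obtain ⟨huS, huJ⟩ := mem_inf.mp huQ
  set a' := zK * a * zK⁻¹ with ha'def
  have ha'J : a' ∈ J' := conj_mem_cj zK haJ
  have ha'S : a' ∈ S := mul_mem (mul_mem hzKS haS) (inv_mem hzKS)
  have haa' : a * a' = a' * a := comm_of_ne hJc hJ' hJne hS haJ ha'J haS ha'S
  have hua' : u * a' = a' * u := comm_of_ne hJc hJ' hJne hS huJ ha'J huS ha'S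
  have hM : ∀ x ∈ cen zJ, x * zJ = zJ * x := fun x hx => mem_cen.mp hx
  have ha'2 : a' ^ 2 = zJ := by
    rw [ha'def, conj_pow, hJ.four_sq haJ ha4, ← hcomm, mul_inv_cancel_right]
  set e := a * a' with hedef
  have he1 : e ≠ 1 := by
    intro h1
    have e' : a' = a⁻¹ := eq_inv_of_mul_eq_one_right h1
    refine hJne (eq_of_mem hJ hJc hJ' (inv_mem haJ) (e' ▸ ha'J) ?_ ?_).symm
    · exact ⟨2, by rw [inv_pow, show (2 : ℕ) ^ 2 = 4 from rfl, ← ha4, pow_orderOf_eq_one, inv_one]⟩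
    · rw [orderOf_inv, ha4]
  have he2 : orderOf e = 2 := by
    refine orderOf_eq_prime ?_ he1
    rw [hedef, (show Commute a a' from haa').mul_pow, hJ.four_sq haJ ha4, ha'2, sq_one_of_two hJ.inv]
  obtain ⟨L, hL, hLsc, hLmem⟩ := DIAG hJ hJc hK.inv hcomm.symm (Ne.symm hJne)
  have heL : e ∈ L := hLmem a haJ (two_el_of_four ha4) haa'
  have hLK : L ≤ pLayerOf 2 (cen zK) :=
    balance (s := zK) (t := zJ) hJ.inv hcomm (by rwa [inf_comm] at hL)
  have heK : e ∈ Cb K := by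
    rcases HOM hK.qs hL.qs hL.pel (hLsc.trans hsc) (hLK.trans (layer_le_sup_Cb hKc)) hn
      (fun r hr => (mem_cen.mp (mem_inf.mp (hL.le hr)).1).symm) with h | h
    · exact h heL
    · exact absurd h hCb
  have heJ : zJ * e = e * zJ := (mem_cen.mp (mem_inf.mp (hL.le heL)).1).symm
  have heZ : zK * e = e * zK := (mem_cen.mp (mem_inf.mp (hL.le heL)).2).symm
  obtain ⟨hPe, hPeQ, hPesc, -⟩ := hK.fix hKc he2 heK heZ
  -- an element of order four of `C_K(e)` inverted by `zJ`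
  obtain ⟨S2, hB2, hS2H, hS2, hSy2⟩ := exists_sylow_in (H := cen zK) (B := zpowers zJ ⊔ zpowers e)
    (sup_le (zpowers_le.mpr (mem_cen.mpr hcomm)) (zpowers_le.mpr (mem_cen.mpr heZ.symm)))
    ((isPGroup_zpowers (two_el_of_two hJ.inv)).to_sup_of_normal_right'
      (isPGroup_zpowers (two_el_of_two he2)) (zpowers_le.mpr (mem_normalizer_of_maps fun x hx => by
        obtain ⟨i, rfl⟩ := mem_zpowers_iff.mp hx
        rw [((show Commute zJ e from heJ).zpow_right i).eq, mul_inv_cancel_right]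
        exact hx)))
  have hQ2 := hSy2 K hKc
  have hzJS2 : zJ ∈ S2 := hB2 (le_sup_left (b := zpowers e) (mem_zpowers zJ))
  have heS2 : e ∈ S2 := hB2 (le_sup_right (a := zpowers zJ) (mem_zpowers e))
  obtain ⟨w, hwQ, hw4, hwz⟩ := (INV hK hQ2 hJ.inv hn (inf_normalizer_le hzJS2 hn) hcomm).resolve_left hCb
  obtain ⟨hwS, hwK⟩ := mem_inf.mp hwQ
  have hwe : e * w = w * e := by
    refine mul_inv_eq_iff_eq_mul.mp (mul_inv_eq_one.mp ?_)
    exact commute_of_mem_inter (card_Om_coprime K) (heK.2 w hwK)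
      (two_el_of_mem hS2 (mul_mem (mul_mem (mul_mem heS2 hwS) (inv_mem heS2)) (inv_mem hwS)))
  have hwzK : w * zK = zK * w := (hK.z_comm hwK).symm
  have hwzJ : w * zJ * w⁻¹ = zJ * zK := by
    rw [inv_of_two hJ.inv, mul_eq_one_iff_eq_inv.symm] at hwz
    have h1 : w * zJ * w = zJ := by
      calc w * zJ * w = zJ * (zJ * w * zJ * w) := by
            simp only [← mul_assoc, sq_one_of_two hJ.inv, one_mul]
        _ = zJ := by rw [hwz, mul_one]
    calc w * zJ * w⁻¹ = (w * zJ * w) * (w ^ 2)⁻¹ := by group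
      _ = zJ * zK := by rw [h1, hK.four_sq hwK hw4, inv_of_two hK.inv]
  have hzJM : ∀ x ∈ J', x * zJ = zJ * x := fun x hx => hM x (hJ'.le hx)
  set g := u * w * a with hgdef
  have hge : g * e * g⁻¹ = e * zJ := by
    calc g * e * g⁻¹ = u * w * (a * (a * a') * a⁻¹) * w⁻¹ * u⁻¹ := by rw [hgdef, hedef]; group
      _ = u * (w * e) * w⁻¹ * u⁻¹ := by
        rw [show a * (a * a') * a⁻¹ = e by
          rw [mul_assoc, hedef, mul_assoc a a', ← (show Commute a a' from haa').inv_left.eq,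
            mul_inv_cancel_left]]
        group
      _ = u * e * u⁻¹ := by rw [← hwe]; group
      _ = (u * a * u⁻¹) * (u * a' * u⁻¹) := by rw [hedef]; group
      _ = a⁻¹ * a' := by rw [hua, hua', mul_inv_cancel_right]
      _ = e * zJ := by rw [hJ.four_inv haJ ha4, mul_assoc, ← hzJM a' ha'J, ← mul_assoc]
  have hgz : g * zK * g⁻¹ = e := by
    have h1 : a * zK * a⁻¹ = e * zJ * zK := by
      have h2 : a'⁻¹ = a' * zJ := inv_eq_mul_of_sq ha'2 (sq_one_of_two hJ.inv)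
      calc a * zK * a⁻¹ = a * (zK * a * zK⁻¹)⁻¹ * zK := by group
        _ = a * (a' * zJ) * zK := by rw [← ha'def, h2]
        _ = e * zJ * zK := by rw [hedef]; group
    have h3 : w * (e * zJ * zK) * w⁻¹ = e * zJ := by
      calc w * (e * zJ * zK) * w⁻¹ = (w * e) * zJ * (zK * w⁻¹) := by group
        _ = (e * w) * zJ * (w⁻¹ * zK) := by
          rw [← hwe, (show Commute w zK from hwzK).inv_left.eq]
        _ = e * (w * zJ * w⁻¹) * zK := by group
        _ = e * zJ := by rw [hwzJ, mul_assoc e, mul_assoc zJ, sq_one_of_two hK.inv, mul_one]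
    calc g * zK * g⁻¹ = u * (w * (a * zK * a⁻¹) * w⁻¹) * u⁻¹ := by rw [hgdef]; group
      _ = u * (e * zJ) * u⁻¹ := by rw [h1, h3]
      _ = (u * a * u⁻¹) * (u * a' * u⁻¹) * (u * zJ * u⁻¹) := by rw [hedef]; group
      _ = a⁻¹ * a' * zJ := by
        rw [hua, hua', mul_inv_cancel_right, ← hJ.z_comm huJ, mul_inv_cancel_right]
      _ = e := by
        rw [hJ.four_inv haJ ha4, mul_assoc a zJ, ← hzJM a' ha'J, mul_assoc a, mul_assoc a',
          sq_one_of_two hJ.inv, mul_one]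
  set R0 := cj g (fixPC 2 K e)
  have hR0 : IsPC 2 R0 (cen zJ ⊓ cen e) := by
    have h1 := hPe.conj g
    rw [cj_inf, cj_cen, cj_cen, hgz, hge] at h1
    convert h1 using 1
    ext x
    rw [mem_inf, mem_inf, mem_cen, mem_cen, mem_cen]
    refine ⟨fun ⟨h, h'⟩ => ⟨h', ((show Commute x e from h').mul_right h).eq⟩, fun ⟨h, h'⟩ => ⟨?_, h⟩⟩
    have h2 : Commute x (e⁻¹ * (e * zJ)) := (show Commute x e from h).inv_right.mul_right h'
    rwa [inv_mul_cancel_left] at h2
  have heR0 : e ∈ R0 := hgz ▸ conj_mem_cj g hPeQ.mem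
  have hR0M := balance (s := zJ) (t := e) he2 heJ.symm hR0
  have hR0sc : sc R0 = sc J := by rw [← sc_cj, hPesc, hsc]
  have heN : e ∈ normalizer (J : Set G) := layer_le_normalizer hJc (hR0M heR0)
  have heCb : e ∈ Cb J := by
    rcases HOM hJ.qs hR0.qs hR0.pel hR0sc (hR0M.trans (layer_le_sup_Cb hJc)) heN
      (fun r hr => (mem_cen.mp (mem_inf.mp (hR0.le hr)).2).symm) with h | h
    · exact h heR0
    · exact h
  have haCb : a ∈ Cb J := by
    have := mul_mem heCb (inv_mem (pcomp_le_Cb hJc hJ' hJne ha'J))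
    rwa [hedef, mul_inv_cancel_right] at this
  have := hJ.not_Cb haJ (two_el_of_four ha4) haCb
  omega

end CfsgLib.TwoCompFour
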