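import Cfsg.Agent.Lib.TwoCompFour.PartA

/-! A `2`-element of order at least four of `K` centralizing `z(J)` normalises `J`. -/

set_option autoImplicit false
set_option linter.unusedSectionVars false

namespace CfsgLib.TwoCompFour

open Subgroup Cfsg CfsgLib.Comp

universe u

variable {G : Type u} [Group G] [Finite G]

/-! ### Facts on one component -/

theorem bar_mk_pow {J : Subgroup G} {x : G} (hx : x ∈ J) (n : ℕ) :
    bar 2 ↥J ⟨x, hx⟩ ^ n = bar 2 ↥J ⟨x ^ n, pow_mem hx n⟩ := by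
  rw [← map_pow]; rfl

/-- Elements of order four of `J` are conjugate modulo the odd core. -/
theorem QT.conj_four_mod {z : G} {J : Subgroup G} (h : QT z J) {a b : G} (ha : a ∈ J) (hb : b ∈ J)
    (ha4 : orderOf a = 4) (hb4 : orderOf b = 4) :
    ∃ r ∈ J, r * a * r⁻¹ * b⁻¹ ∈ Om 2 J := by
  obtain ⟨g, hg⟩ := h.oneInv.conj_four (a := bar 2 ↥J ⟨a, ha⟩) (b := bar 2 ↥J ⟨b, hb⟩)
    (by rw [bar_order ha (two_el_of_four ha4), ha4]) (by rw [bar_order hb (two_el_of_four hb4), hb4])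
  obtain ⟨⟨r, hr⟩, rfl⟩ := bar_surjective 2 g
  refine ⟨r, hr, ⟨⟨r, hr⟩ * ⟨a, ha⟩ * ⟨r, hr⟩⁻¹ * ⟨b, hb⟩⁻¹, (QuotientGroup.eq_one_iff _).mp ?_, rfl⟩⟩
  show bar 2 ↥J (_ * _ * _ * _) = 1
  rw [map_mul, map_mul, map_mul, map_inv, map_inv, hg, mul_inv_cancel]

/-- A `2`-subgroup of `J` centralizing an element of order four is cyclic. -/
theorem QT.cyclic_of_comm {z : G} {J : Subgroup G} (h : QT z J) {i : G} (hi : i ∈ J) (hi4 : orderOf i = 4)
    {B : Subgroup G} (hBJ : B ≤ J) (hB : IsPGroup 2 B) (hc : ∀ b ∈ B, b * i = i * b) : IsCyclic ↥B := by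
  have hB' : IsPGroup 2 ↥((B.subgroupOf J).map (bar 2 ↥J)) :=
    (hB.of_equiv (subgroupOfEquivOfLe hBJ).symm).map _
  haveI := h.oneInv.centralised_cyclic (i := bar 2 ↥J ⟨i, hi⟩)
    (by rw [bar_order hi (two_el_of_four hi4), hi4]) hB' (by
      rintro _ ⟨⟨b, hb⟩, hbB, rfl⟩
      rw [← map_mul, ← map_mul]
      exact congrArg _ (Subtype.ext (hc b hbB)))
  refine isCyclic_of_injective (((bar 2 ↥J).subgroupMap (B.subgroupOf J)).comp
    (subgroupOfEquivOfLe hBJ).symm.toMonoidHom) ?_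
  rw [injective_iff_map_eq_one]
  intro b hb
  refine Subtype.ext ?_
  have hb1 : (⟨(b : G), hBJ b.2⟩ : ↥J) ∈ pPrimeCore 2 ↥J :=
    (QuotientGroup.eq_one_iff _).mp (congrArg Subtype.val hb)
  exact commute_of_mem_inter (card_Om_coprime J) ⟨_, hb1, rfl⟩ (two_el_of_mem hB b.2)

/-- A `2`-element of `J` is conjugate into a Sylow subgroup. -/
theorem Syl.exists_conj {J Q : Subgroup G} (hQ : Syl J Q) {d : G} (hd : d ∈ J)
    (h2 : ∃ k, d ^ 2 ^ k = 1) : ∃ x ∈ J, x * d * x⁻¹ ∈ Q := by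
  have hp : IsPGroup 2 (Q.subgroupOf J) := hQ.two.of_equiv (subgroupOfEquivOfLe hQ.le).symm
  obtain ⟨k, hk⟩ := h2
  obtain ⟨R, hR⟩ := (CfsgLib.Comp.zpowers_isPGroup (p := 2) (x := (⟨d, hd⟩ : ↥J)) (n := k)
    (Subtype.ext hk)).exists_le_sylow
  obtain ⟨w, hw⟩ := MulAction.exists_smul_eq ↥J R (hp.toSylow hQ.idx)
  refine ⟨w, w.2, ?_⟩
  have h1 : w * ⟨d, hd⟩ * w⁻¹ ∈ ((hp.toSylow hQ.idx : Sylow 2 ↥J) : Subgroup ↥J) := by
    rw [← hw]
    exact ⟨⟨d, hd⟩, hR (mem_zpowers _), rfl⟩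
  exact h1

theorem mem_zpowers_of_cyclic {B : Subgroup G} (hB : IsCyclic ↥B) {y x : G} (hy : y ∈ B) (hx : x ∈ B)
    (hxy : x ^ orderOf y = 1) : x ∈ zpowers y := by
  classical
  haveI : Fintype ↥B := Fintype.ofFinite _
  set n := orderOf y with hn
  let F := Finset.univ.filter (fun b : ↥B => b ^ n = 1)
  have h1 : F.card ≤ n := IsCyclic.card_pow_eq_one_le (α := ↥B) (orderOf_pos y)
  let Z := Finset.univ.filter (fun b : ↥B => b ∈ zpowers (⟨y, hy⟩ : ↥B))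
  have hZ : Z.card = n := by
    rw [hn, ← orderOf_mk y hy, ← Nat.card_zpowers, Nat.card_eq_fintype_card]
    exact (Fintype.card_of_subtype _ (by simp [Z])).symm
  have hZF : Z ⊆ F := by
    intro b hb
    simp only [Z, F, Finset.mem_filter, Finset.mem_univ, true_and] at hb ⊢
    obtain ⟨i, rfl⟩ := mem_zpowers_iff.mp hb
    rw [← zpow_natCast, ← zpow_mul, mul_comm, zpow_mul, zpow_natCast, hn, ← orderOf_mk y hy,
      pow_orderOf_eq_one, one_zpow]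
  have h2 : Z = F := Finset.eq_of_subset_of_card_le hZF (hZ ▸ h1)
  have h3 : (⟨x, hx⟩ : ↥B) ∈ F := by
    simp only [F, Finset.mem_filter, Finset.mem_univ, true_and]
    exact Subtype.ext hxy
  rw [← h2] at h3
  simp only [Z, Finset.mem_filter, Finset.mem_univ, true_and] at h3
  obtain ⟨i, hi⟩ := mem_zpowers_iff.mp h3
  exact mem_zpowers_iff.mpr ⟨i, congrArg Subtype.val hi⟩

/-- An element of order four inverted by conjugation. -/
theorem conj_four_swap {u y zK : G} (hy : y ^ 2 = zK) (hzu : zK * u * zK⁻¹ = u⁻¹) :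
    y * u * y⁻¹ = (y⁻¹ * u * y)⁻¹ ∧ y⁻¹ * (y⁻¹ * u * y) * y = u⁻¹ ∨ orderOf zK ≠ 2 := by
  by_cases hz : orderOf zK = 2
  swap
  · exact Or.inr hz
  left
  have hzi : zK⁻¹ = zK := inv_of_two hz
  refine ⟨?_, ?_⟩
  · rw [show y * u * y⁻¹ = y⁻¹ * (y ^ 2 * u * (y ^ 2)⁻¹) * y by group, hy, hzu]
    group
  · rw [show y⁻¹ * (y⁻¹ * u * y) * y = (y ^ 2)⁻¹ * u * y ^ 2 by rw [sq]; group, hy]
    calc zK⁻¹ * u * zK = zK⁻¹ * u * (zK⁻¹)⁻¹ := by rw [inv_inv]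
      _ = u⁻¹ := by rw [hzi, hzu]

/-- The hypotheses of the statement after the first reductions. -/
structure Cfg (zJ zK : G) (J K : Subgroup G) (y : G) : Prop where
  hJ : QT zJ J
  hJc : IsPC 2 J (cen zJ)
  hK : QT zK K
  hKc : IsPC 2 K (cen zK)
  hsc : sc J = sc K
  hyK : y ∈ K
  hyz : y * zJ = zJ * y
  hn : zJ ∈ normalizer (K : Set G)
  hCb : zJ ∉ Cb K
  hyJ : y ∉ normalizer (J : Set G)

namespace Cfg

variable {zJ zK y : G} {J K : Subgroup G}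

theorem comm_zJ_zK (c : Cfg zJ zK J K y) : zJ * zK = zK * zJ := c.hK.comm_of_normalizer c.hn

theorem z_ne (c : Cfg zJ zK J K y) : zJ ≠ zK := fun e => c.hCb (e ▸ c.hK.z_mem_Cb)

theorem zJ_not_mem (c : Cfg zJ zK J K y) : zJ ∉ K := fun h => c.z_ne (c.hK.uniq zJ h c.hJ.inv)

theorem ycomp (c : Cfg zJ zK J K y) : IsPC 2 (cj y⁻¹ J) (cen zJ) :=
  isPC_conj_mem c.hJc (inv_mem (mem_cen.mpr c.hyz))

theorem ycomp_ne (c : Cfg zJ zK J K y) : J ≠ cj y⁻¹ J := fun e => c.hyJ (by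
  have h := mem_normalizer_of_cj_eq e.symm
  simpa using inv_mem h)

theorem conj_mem_ycomp {x : G} (hx : x ∈ J) : y⁻¹ * x * y ∈ cj y⁻¹ J :=
  ⟨x, hx, show y⁻¹ * x * (y⁻¹)⁻¹ = y⁻¹ * x * y by rw [inv_inv]⟩

/-- The involution `δ'` moving `K`, built from an element of order four of `J` inverted by `z(K)`. -/
theorem delta (c : Cfg zJ zK J K y) (hy2 : y ^ 2 = zK) {S : Subgroup G}
    (hS : IsPGroup 2 S) (hSM : S ≤ cen zJ) (hyS : y ∈ S) {u : G} (huS : u ∈ S) (huJ : u ∈ J)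
    (hu4 : orderOf u = 4) (hzu : zK * u * zK⁻¹ = u⁻¹) :
    ∀ δ, δ = y⁻¹ * u * y * u⁻¹ →
      orderOf δ = 2 ∧ δ ∈ S ∧ δ * zK = zK * δ ∧ δ * y * δ⁻¹ = y * zJ ∧ δ ∉ normalizer (K : Set G) ∧
        u * (y⁻¹ * u * y) = y⁻¹ * u * y * u := by
  intro δ hδ
  set v := y⁻¹ * u * y
  have hvJ : v ∈ cj y⁻¹ J := conj_mem_ycomp huJ
  have hvS : v ∈ S := mul_mem (mul_mem (inv_mem hyS) huS) hyS
  have huv : u * v = v * u := comm_of_ne c.hJc c.ycomp c.ycomp_ne hS huJ hvJ huS hvS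
  have hzc : ∀ x ∈ S, x * zJ = zJ * x := fun x hx => mem_cen.mp (hSM hx)
  have zJ2 := sq_one_of_two c.hJ.inv
  have hv2 : v ^ 2 = zJ := by
    have h1 : v = y⁻¹ * u * (y⁻¹)⁻¹ := by rw [inv_inv]
    rw [h1, conj_pow, c.hJ.four_sq huJ hu4, inv_inv, mul_assoc, ← hzc y hyS, inv_mul_cancel_left]
  have hui := c.hJ.four_inv huJ hu4
  have hvi : v⁻¹ = v * zJ := inv_eq_mul_of_sq hv2 zJ2
  have hCv : Commute u⁻¹ v := (show Commute u v from huv).inv_left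
  have hδ2 : orderOf δ = 2 := by
    refine orderOf_eq_prime ?_ ?_
    · rw [hδ, hCv.symm.mul_pow, hv2, inv_pow, c.hJ.four_sq huJ hu4, inv_of_two c.hJ.inv, zJ2]
    · rw [hδ]
      intro h1
      have e : v = u := mul_inv_eq_one.mp h1
      exact c.ycomp_ne (eq_of_mem c.hJ c.hJc c.ycomp huJ (e ▸ hvJ) (two_el_of_four hu4) (by omega)).symm
  obtain ⟨hyu, hyv⟩ := (conj_four_swap hy2 hzu).resolve_right (fun h => h c.hK.inv)
  have hzS : zK ∈ S := hy2 ▸ pow_mem hyS 2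
  have hδS : δ ∈ S := hδ ▸ mul_mem hvS (inv_mem huS)
  have hδz : δ * zK = zK * δ := by
    refine (mul_inv_eq_iff_eq_mul.mp ?_).symm
    have hzv : zK * v * zK⁻¹ = v⁻¹ := by
      have hyzK : y * zK = zK * y := by rw [← hy2, ← pow_succ', ← pow_succ]
      calc zK * v * zK⁻¹ = (zK * y⁻¹) * u * (y * zK⁻¹) := by simp only [v]; group
        _ = (y⁻¹ * zK) * u * (zK⁻¹ * y) := by
          rw [(show Commute y zK from hyzK).inv_left.eq, (show Commute y zK from hyzK).inv_right.eq]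
        _ = y⁻¹ * (zK * u * zK⁻¹) * y := by group
        _ = v⁻¹ := by rw [hzu]; simp only [v]; group
    calc zK * δ * zK⁻¹ = (zK * v * zK⁻¹) * (zK * u * zK⁻¹)⁻¹ := by rw [hδ]; group
      _ = v⁻¹ * u := by rw [hzv, hzu, inv_inv]
      _ = δ := by
        rw [hδ, hvi, hui, mul_assoc, ← hzc u huS]
  have hconj : δ * y * δ⁻¹ = y * zJ := by
    have h1 : y⁻¹ * δ * y = zJ * δ := by
      calc y⁻¹ * δ * y = (y⁻¹ * v * y) * (y⁻¹ * u * y)⁻¹ := by rw [hδ]; group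
        _ = u⁻¹ * v⁻¹ := by rw [hyv]
        _ = zJ * δ := by
          rw [hδ, hvi, ← mul_assoc, hCv.eq, ← hzc _ (mul_mem hvS (inv_mem huS))]
    calc δ * y * δ⁻¹ = y * (y⁻¹ * δ * y) * δ⁻¹ := by group
      _ = y * zJ := by rw [h1]; group
  refine ⟨hδ2, hδS, hδz, hconj, fun hN => c.zJ_not_mem ?_, huv⟩
  have h2 := (mem_normalizer_iff.mp hN y).mp c.hyK
  rw [hconj] at h2
  simpa using mul_mem (inv_mem c.hyK) h2

/-- Order four, the final configuration. -/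
theorem final4 (c : Cfg zJ zK J K y) (hy2 : y ^ 2 = zK) (hy4 : orderOf y = 4) {a : G} (haJ : a ∈ J)
    (ha4 : orderOf a = 4) (haz : a * zK = zK * a) (hzK : zK = a * (y⁻¹ * a * y)) : False := by
  set a' := y⁻¹ * a * y with ha'
  have haa : a * a' = a' * a := by
    have : Commute a (a⁻¹ * zK) := (Commute.refl a).inv_right.mul_right haz
    rw [hzK, inv_mul_cancel_left] at this
    exact this.eq
  have hya : y * a * y⁻¹ = a' := by
    rw [show y * a * y⁻¹ = y⁻¹ * (y ^ 2 * a * (y ^ 2)⁻¹) * y by group, hy2, ← haz, mul_inv_cancel_right]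
  have hya' : y * a' * y⁻¹ = a := by rw [ha']; group
  have hyM : y ∈ cen zJ := mem_cen.mpr c.hyz
  have haM : a ∈ cen zJ := c.hJc.le haJ
  have ha'M : a' ∈ cen zJ := mul_mem (mul_mem (inv_mem hyM) haM) hyM
  set A := zpowers a ⊔ zpowers a' with hA
  have hA2 : IsPGroup 2 ↥A := (isPGroup_zpowers (two_el_of_four ha4)).to_sup_of_normal_right'
    (isPGroup_zpowers (two_el_of_four (by
      rw [show a' = y⁻¹ * a * (y⁻¹)⁻¹ by rw [inv_inv], orderOf_conj', ha4])))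
    (zpowers_le.mpr (mem_normalizer_of_maps fun x hx => by
      obtain ⟨i, rfl⟩ := mem_zpowers_iff.mp hx
      rw [((show Commute a a' from haa).zpow_right i).eq, mul_inv_cancel_right]
      exact hx))
  have hyA : y ∈ normalizer (A : Set G) := by
    refine mem_normalizer_of_maps fun x hx => ?_
    have h1 : A.map (MulAut.conj y).toMonoidHom ≤ A := by
      rw [hA, Subgroup.map_sup, MonoidHom.map_zpowers, MonoidHom.map_zpowers]
      refine sup_le (zpowers_le.mpr ?_) (zpowers_le.mpr ?_)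
      · show y * a * y⁻¹ ∈ _
        rw [hya]; exact le_sup_right (a := zpowers a) (mem_zpowers a')
      · show y * a' * y⁻¹ ∈ _
        rw [hya']; exact le_sup_left (b := zpowers a') (mem_zpowers a)
    exact h1 ⟨x, hx, rfl⟩
  obtain ⟨S, hBS, hSM, hS, hSy⟩ := exists_sylow_in (H := cen zJ) (B := A ⊔ zpowers y)
    (sup_le (sup_le (zpowers_le.mpr haM) (zpowers_le.mpr ha'M)) (zpowers_le.mpr hyM))
    (hA2.to_sup_of_normal_left' (isPGroup_zpowers (two_el_of_four hy4)) (zpowers_le.mpr hyA))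
  have hQ := hSy J c.hJc
  have haS : a ∈ S :=
    hBS (le_sup_left (b := zpowers y) (le_sup_left (b := zpowers a') (mem_zpowers a)))
  have ha'S : a' ∈ S :=
    hBS (le_sup_left (b := zpowers y) (le_sup_right (a := zpowers a) (mem_zpowers a')))
  have hyS : y ∈ S := hBS (le_sup_right (a := A) (mem_zpowers y))
  obtain ⟨u, huQ, hu4, hua⟩ := hQ.exists_inverter c.hJ (mem_inf.mpr ⟨haS, haJ⟩) ha4
  obtain ⟨huS, huJ⟩ := mem_inf.mp huQ
  have ha'J : a' ∈ cj y⁻¹ J := conj_mem_ycomp haJ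
  have hua' : u * a' = a' * u := comm_of_ne c.hJc c.ycomp c.ycomp_ne hS huJ ha'J huS ha'S
  have ha2 := c.hJ.four_sq haJ ha4
  have hzu : zK * u * zK⁻¹ = u⁻¹ := by
    calc zK * u * zK⁻¹ = a * (a' * u) * a'⁻¹ * a⁻¹ := by rw [hzK]; group
      _ = a * u * a⁻¹ := by rw [← hua']; group
      _ = a * (u * a⁻¹ * u⁻¹) * u := by group
      _ = zJ * u := by
        rw [show u * a⁻¹ * u⁻¹ = (u * a * u⁻¹)⁻¹ by group, hua, inv_inv, ← sq, ha2]
      _ = u⁻¹ := by rw [c.hJ.four_inv huJ hu4, c.hJ.z_comm huJ]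
  obtain ⟨hd2, hdS, hdz, hdy, hdK, huv⟩ := c.delta hy2 hS hSM hyS huS huJ hu4 hzu _ rfl
  set δ := y⁻¹ * u * y * u⁻¹ with hδ
  -- conjugate `zK` to `δ` inside `C(zJ)`
  obtain ⟨r, hr, hra⟩ := c.hJ.conj_four_mod haJ (inv_mem huJ) ha4 (by rw [orderOf_inv, hu4])
  obtain ⟨r₁, hr₁, hra₁⟩ := c.hJ.conj_four_mod haJ huJ ha4 hu4
  set M := cen zJ with hM
  let f := bar 2 ↥M
  have hrM : r ∈ M := c.hJc.le hr
  have hr₁M : r₁ ∈ M := c.hJc.le hr₁
  have huM : u ∈ M := c.hJc.le huJ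
  have hf1 : ∀ p q : ↥M, ((p * q⁻¹ : ↥M) : G) ∈ (pPrimeCore 2 ↥M).map M.subtype → f p = f q := by
    intro p q hpq
    obtain ⟨w, hw, e⟩ := hpq
    have e' : w = p * q⁻¹ := Subtype.ext e
    rw [← mul_inv_eq_one, ← map_inv, ← map_mul, ← e']
    exact (QuotientGroup.eq_one_iff w).mpr hw
  have hOm : ∀ x ∈ Om 2 J, x ∈ (pPrimeCore 2 ↥M).map M.subtype := fun x hx => by
    rw [c.hJc.Om_eq] at hx
    exact (mem_inf.mp hx).2
  let R : ↥M := ⟨r, hrM⟩
  let R₁ : ↥M := ⟨r₁, hr₁M⟩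
  let A₀ : ↥M := ⟨a, haM⟩
  let U : ↥M := ⟨u, huM⟩
  let Y : ↥M := ⟨y, hyM⟩
  have e1 : f R * f A₀ * (f R)⁻¹ = (f U)⁻¹ := by
    rw [← map_inv, ← map_inv, ← map_mul, ← map_mul]
    exact hf1 _ _ (hOm _ (by simpa [R, A₀, U] using hra))
  have e2 : f R₁ * f A₀ * (f R₁)⁻¹ = f U := by
    rw [← map_inv, ← map_mul, ← map_mul]
    exact hf1 _ _ (hOm _ (by simpa [R₁, A₀, U] using hra₁))
  have hc : ∀ p q : ↥M, (p : G) ∈ J → (q : G) ∈ J →
      f p * ((f Y)⁻¹ * f q * f Y) = (f Y)⁻¹ * f q * f Y * f p := by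
    intro p q hp hq
    rw [← map_inv, ← map_mul, ← map_mul, ← map_mul, ← map_mul]
    refine hf1 _ _ ?_
    have := comm_mem_core c.hJc c.ycomp c.ycomp_ne hp (conj_mem_ycomp (y := y) hq)
    simpa [Y, mul_assoc] using this
  set R₂ : ↥M := Y⁻¹ * R₁ * Y with hR₂
  have hzM : zK ∈ M := hy2 ▸ pow_mem hyM 2
  let D : ↥M := R * R₂
  have hfz : f ⟨zK, hzM⟩ = f A₀ * ((f Y)⁻¹ * f A₀ * f Y) := by
    rw [← map_inv, ← map_mul, ← map_mul, ← map_mul]
    exact congrArg f (Subtype.ext hzK)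
  have hfD : f D * f ⟨zK, hzM⟩ * (f D)⁻¹ = f ⟨δ, hSM hdS⟩ := by
    have e3 : f ⟨δ, hSM hdS⟩ = (f Y)⁻¹ * f U * f Y * (f U)⁻¹ := by
      rw [← map_inv, ← map_inv, ← map_mul, ← map_mul, ← map_mul]
      exact congrArg f (Subtype.ext rfl)
    have e4 : f R₂ = (f Y)⁻¹ * f R₁ * f Y := by rw [hR₂, map_mul, map_mul, map_inv]
    rw [e3, hfz, show f D = f R * f R₂ from map_mul f _ _, e4]
    have c1 := hc A₀ R₁ haJ hr₁
    have c2 := hc R U hr huJ
    have c3 := hc U U huJ huJ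
    calc f R * ((f Y)⁻¹ * f R₁ * f Y) * (f A₀ * ((f Y)⁻¹ * f A₀ * f Y))
          * (f R * ((f Y)⁻¹ * f R₁ * f Y))⁻¹
        = f R * (((f Y)⁻¹ * f R₁ * f Y) * f A₀) * ((f Y)⁻¹ * f A₀ * f Y)
            * ((f Y)⁻¹ * f R₁ * f Y)⁻¹ * (f R)⁻¹ := by group
      _ = f R * f A₀ * ((f Y)⁻¹ * (f R₁ * f A₀ * (f R₁)⁻¹) * f Y) * (f R)⁻¹ := by rw [← c1]; group
      _ = f R * f A₀ * (((f Y)⁻¹ * f U * f Y) * (f R)⁻¹) := by rw [e2, mul_assoc _ _ (f R)⁻¹]
      _ = (f R * f A₀ * (f R)⁻¹) * ((f Y)⁻¹ * f U * f Y) := by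
        rw [← (show Commute (f R) ((f Y)⁻¹ * f U * f Y) from c2).inv_left.eq]; group
      _ = _ := by
        rw [e1, (show Commute (f U) ((f Y)⁻¹ * f U * f Y) from c3).inv_left.eq]
  set d := (D : G) with hd
  have hdM : d ∈ M := D.2
  have hO : d * zK * d⁻¹ * δ ∈ (pPrimeCore 2 ↥M).map M.subtype := by
    refine ⟨D * ⟨zK, hzM⟩ * D⁻¹ * ⟨δ, hSM hdS⟩, (QuotientGroup.eq_one_iff _).mp ?_, rfl⟩
    show f (_ * _ * _ * _) = 1
    have hδ1 : (⟨δ, hSM hdS⟩ : ↥M) * ⟨δ, hSM hdS⟩ = 1 := Subtype.ext (sq_one_of_two hd2)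
    rw [map_mul, map_mul, map_mul, map_inv, hfD, ← map_mul, hδ1, map_one]
  obtain ⟨e, he, hconj⟩ := exists_conj_of_congr
    (N := (pPrimeCore 2 ↥M).map M.subtype)
    (by rw [Subgroup.card_map_of_injective M.subtype_injective]; exact card_pPrimeCore_coprime 2)
    (by rw [orderOf_conj', c.hK.inv]) hd2 hO
  set g := e * d with hg
  have hgM : g ∈ M := mul_mem (map_subtype_le _ he) hdM
  have hgz : g * zK * g⁻¹ = δ := by rw [hg, ← hconj]; group
  have hR' : QT δ (cj g K) := hgz ▸ c.hK.conj g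
  have hR'c : IsPC 2 (cj g K) (cen δ) := by
    have h1 := c.hKc.conj g
    rwa [cj_cen, hgz] at h1
  have hzJR : zJ ∈ normalizer (cj g K : Set G) := by
    have := mem_normalizer_cj (g := g) c.hn
    rwa [mem_cen.mp hgM, mul_inv_cancel_right] at this
  obtain ⟨L, hL, -, hLmem⟩ := DIAG c.hK c.hKc hd2 hdz (fun h => hdK (mem_normalizer_of_cj_eq h))
  have hxL := hLmem y c.hyK (two_el_of_four hy4) (by
    rw [hdy, ← mul_assoc, mul_assoc y zJ y, ← c.hyz, ← mul_assoc])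
  have hLn : L ≤ normalizer (cj g K : Set G) :=
    (balance (s := δ) (t := zK) c.hK.inv hdz.symm (by rwa [inf_comm] at hL)).trans
      (layer_le_normalizer hR'c)
  have hzKR : zK ∈ normalizer (cj g K : Set G) := by
    have h1 := mul_mem (hLn hxL) hzJR
    rwa [hdy, ← mul_assoc, ← sq, hy2, mul_assoc, sq_one_of_two c.hJ.inv, mul_one] at h1
  exact hdK (partA c.hK c.hKc hR' hR'c (sc_cj K g) hzKR)

/-- Order four. -/
theorem false_four (c : Cfg zJ zK J K y) (hy4 : orderOf y = 4) (hzKJ : zK ∈ normalizer (J : Set G))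
    (hzKCb : zK ∉ Cb J) : False := by
  have hy2 : y ^ 2 = zK := c.hK.four_sq c.hyK hy4
  have hyM : y ∈ cen zJ := mem_cen.mpr c.hyz
  obtain ⟨S, hBS, hSM, hS, hSy⟩ := exists_sylow_in (H := cen zJ) (B := zpowers y) (zpowers_le.mpr hyM)
    (isPGroup_zpowers (two_el_of_four hy4))
  have hQ := hSy J c.hJc
  have hyS : y ∈ S := hBS (mem_zpowers y)
  have hzS : zK ∈ S := hy2 ▸ pow_mem hyS 2
  obtain ⟨u, huQ, hu4, hzu⟩ :=
    (INV c.hJ hQ c.hK.inv hzKJ (inf_normalizer_le hzS hzKJ) c.comm_zJ_zK.symm).resolve_left hzKCb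
  obtain ⟨huS, huJ⟩ := mem_inf.mp huQ
  obtain ⟨hd2, hdS, hdz, hdy, hdK, huv⟩ := c.delta hy2 hS hSM hyS huS huJ hu4 hzu _ rfl
  set δ := y⁻¹ * u * y * u⁻¹ with hδ
  have hyzK : y * zK = zK * y := by rw [← hy2, ← pow_succ', ← pow_succ]
  obtain ⟨S2, hB2, hS2H, hS2, hSy2⟩ := exists_sylow_in (H := cen zK) (B := S ⊓ cen zK) inf_le_right
    (hS.to_le inf_le_left)
  have hQ2 := hSy2 K c.hKc
  have hyS2 : y ∈ S2 := hB2 (mem_inf.mpr ⟨hyS, mem_cen.mpr hyzK⟩)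
  have hdS2 : δ ∈ S2 := hB2 (mem_inf.mpr ⟨hdS, mem_cen.mpr hdz⟩)
  obtain ⟨w, hwQ, hw4, hwy⟩ := hQ2.exists_inverter c.hK (mem_inf.mpr ⟨hyS2, c.hyK⟩) hy4
  obtain ⟨hwS2, hwK⟩ := mem_inf.mp hwQ
  have hdH : δ ∈ cen zK := mem_cen.mpr hdz
  have hne : K ≠ cj δ K := fun e => hdK (mem_normalizer_of_cj_eq e.symm)
  have hwc : w * (δ * y * δ⁻¹) = δ * y * δ⁻¹ * w :=
    comm_of_ne c.hKc (isPC_conj_mem c.hKc hdH) hne hS2 hwK (conj_mem_cj δ c.hyK) hwS2
      (mul_mem (mul_mem hdS2 hyS2) (inv_mem hdS2))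
  rw [hdy] at hwc
  have zK2 := sq_one_of_two c.hK.inv
  have hwzK : w * zK = zK * w := (c.hK.z_comm hwK).symm
  have hwzJ : w * zJ * w⁻¹ = zK * zJ := by
    calc w * zJ * w⁻¹ = (w * y * w⁻¹)⁻¹ * (w * (y * zJ) * w⁻¹) := by group
      _ = zK * zJ := by rw [hwy, inv_inv, hwc, mul_inv_cancel_right, ← mul_assoc, ← sq, hy2]
  set g := w * u with hgdef
  have huz : u * zK * u⁻¹ = zJ * zK := by
    calc u * zK * u⁻¹ = u * (zK * u * zK⁻¹)⁻¹⁻¹⁻¹ * zK := by group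
      _ = zJ * zK := by rw [hzu, inv_inv, inv_inv, ← sq, c.hJ.four_sq huJ hu4]
  have hgz : g * zK * g⁻¹ = zJ := by
    calc g * zK * g⁻¹ = w * (u * zK * u⁻¹) * w⁻¹ := by rw [hgdef]; group
      _ = (w * zJ * w⁻¹) * (w * zK * w⁻¹) := by rw [huz]; group
      _ = zJ := by
        rw [hwzJ, hwzK, mul_inv_cancel_right, mul_assoc, c.comm_zJ_zK, ← mul_assoc, zK2, one_mul]
  have hgzJ : g * zJ * g⁻¹ = zK * zJ := by
    calc g * zJ * g⁻¹ = w * (u * zJ * u⁻¹) * w⁻¹ := by rw [hgdef]; group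
      _ = zK * zJ := by rw [← c.hJ.z_comm huJ, mul_inv_cancel_right, hwzJ]
  set s := w * δ * w⁻¹ with hs
  have hgy : g * y * g⁻¹ = y⁻¹ * s := by
    calc g * y * g⁻¹ = w * (y * (y⁻¹ * u * y * u⁻¹)) * w⁻¹ := by rw [hgdef]; group
      _ = (w * y * w⁻¹) * s := by rw [hs, hδ]; group
      _ = y⁻¹ * s := by rw [hwy]
  have hgd : g * δ * g⁻¹ = s := by
    have hud : u * δ * u⁻¹ = δ := by
      calc u * δ * u⁻¹ = (u * (y⁻¹ * u * y)) * u⁻¹ * u⁻¹ := by rw [hδ]; group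
        _ = δ := by rw [huv, hδ]; group
    calc g * δ * g⁻¹ = w * (u * δ * u⁻¹) * w⁻¹ := by rw [hgdef]; group
      _ = s := by rw [hud]
  set J₀ := cj g K
  have hJ₀ : QT zJ J₀ := hgz ▸ c.hK.conj g
  have hJ₀c : IsPC 2 J₀ (cen zJ) := by
    have h1 := c.hKc.conj g
    rwa [cj_cen, hgz] at h1
  set a := g * y * g⁻¹ with ha
  have haJ₀ : a ∈ J₀ := conj_mem_cj g c.hyK
  have hsz : s * zK = zK * s := by
    have := comm_conj (g := w) hdz
    rwa [hwzK, mul_inv_cancel_right] at this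
  have hyJ₀ : y ∉ normalizer (J₀ : Set G) := by
    intro hy'
    have h1 : s ∈ normalizer (J₀ : Set G) := by
      have := mul_mem hy' (le_normalizer haJ₀)
      rwa [hgy, mul_inv_cancel_left] at this
    apply hdK
    have h2 := mem_normalizer_cj (g := g⁻¹) h1
    rw [← hgd, inv_inv] at h2
    have e : cj g⁻¹ J₀ = K := by
      ext x
      refine ⟨?_, fun hx => ⟨g * x * g⁻¹, conj_mem_cj g hx,
        show g⁻¹ * (g * x * g⁻¹) * (g⁻¹)⁻¹ = x by group⟩⟩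
      rintro ⟨_, ⟨v, hv, rfl⟩, rfl⟩
      show g⁻¹ * (g * v * g⁻¹) * (g⁻¹)⁻¹ ∈ K
      simpa [mul_assoc] using hv
    rw [e] at h2
    simpa [mul_assoc] using h2
  have c' : Cfg zJ zK J₀ K y := ⟨hJ₀, hJ₀c, c.hK, c.hKc, (sc_cj K g).symm, c.hyK, c.hyz, c.hn, c.hCb, hyJ₀⟩
  have hyi : y⁻¹ * zK = zK * y⁻¹ := (show Commute y zK from hyzK).inv_left.eq
  refine c'.final4 hy2 hy4 haJ₀ (by rw [ha, orderOf_conj', hy4]) ?_ ?_
  · rw [hgy, mul_assoc, hsz, ← mul_assoc, hyi, mul_assoc]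
  · rw [hgy]
    have hs2 : s * s = 1 := sq_one_of_two (by rw [hs, orderOf_conj', hd2])
    calc zK = zK⁻¹ := (inv_of_two c.hK.inv).symm
      _ = y⁻¹ * (s * s) * y⁻¹ := by rw [← hy2, hs2]; group
      _ = y⁻¹ * s * (zK * zK) * s * y⁻¹ := by rw [zK2]; group
      _ = y⁻¹ * (s * zK) * (zK * s) * y⁻¹ := by group
      _ = y⁻¹ * s * (zK * (zK * s)) * y⁻¹ := by group
      _ = y⁻¹ * s * (y⁻¹ * (y⁻¹ * s) * y) := by
        rw [← mul_assoc zK zK s, zK2, one_mul]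
        have hzy : y⁻¹ * y⁻¹ = zK := by rw [← mul_inv_rev, ← sq, hy2, inv_of_two c.hK.inv]
        rw [← mul_assoc y⁻¹ y⁻¹ s, hzy, ← hsz]
        calc y⁻¹ * s * s * y⁻¹ = y⁻¹ * y⁻¹ := by rw [mul_assoc y⁻¹ s s, hs2, mul_one]
          _ = zK := hzy
          _ = y⁻¹ * (s * s) * zK * y := by rw [hs2, mul_one, mul_assoc, ← hyzK, inv_mul_cancel_left]
          _ = y⁻¹ * s * (s * zK * y) := by group

/-- Order at least eight. -/
theorem false_eight (c : Cfg zJ zK J K y) {k : ℕ} (hyo : orderOf y = 4 * 2 ^ (k + 1))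
    (hy2J : y ^ 2 ∈ normalizer (J : Set G)) (hcard : Nat.card (↥J ⧸ pPrimeCore 2 ↥J) = Nat.card (↥K ⧸ pPrimeCore 2 ↥K)) :
    False := by
  set m := 2 ^ (k + 1) with hm
  have hmeven : m = 2 * 2 ^ k := by rw [hm, pow_succ']
  have hy2el : ∃ j, y ^ 2 ^ j = 1 := ⟨k + 3, by
    rw [show (2 : ℕ) ^ (k + 3) = 4 * m by rw [hm]; ring, ← hyo, pow_orderOf_eq_one]⟩
  have hyM : y ∈ cen zJ := mem_cen.mpr c.hyz
  set i := y ^ m with hi
  have hi4 : orderOf i = 4 := by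
    rw [hi, orderOf_pow' y (by positivity), hyo, Nat.gcd_eq_right (Dvd.intro_left 4 rfl),
      Nat.mul_div_cancel _ (by positivity)]
  have hiK : i ∈ K := pow_mem c.hyK m
  have hi2 : i ^ 2 = zK := c.hK.four_sq hiK hi4
  have hiJ : i ∈ normalizer (J : Set G) := by rw [hi, hmeven, pow_mul]; exact pow_mem hy2J _
  obtain ⟨S, hBS, hSM, hS, hSy⟩ := exists_sylow_in (H := cen zJ) (B := zpowers y) (zpowers_le.mpr hyM)
    (isPGroup_zpowers hy2el)
  have hQ := hSy J c.hJc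
  have hyS : y ∈ S := hBS (mem_zpowers y)
  obtain ⟨a, haQ, ha4, haE⟩ := hQ.exists_fixed c.hJ (E := S ⊓ normalizer (J : Set G))
    (hS.to_le inf_le_left) (le_inf inf_le_left (inf_le_right.trans le_normalizer))
    (fun e he => inf_normalizer_le (mem_inf.mp he).1 (mem_inf.mp he).2)
  obtain ⟨haS, haJ⟩ := mem_inf.mp haQ
  have hzKS : zK ∈ S := hi2 ▸ pow_mem (pow_mem hyS m) 2
  have hai : i * a * i⁻¹ = a ∨ i * a * i⁻¹ = a⁻¹ :=
    haE i (mem_inf.mpr ⟨pow_mem hyS m, hiJ⟩)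
  have hazK : a * zK = zK * a := by
    refine (mul_inv_eq_iff_eq_mul.mp ?_).symm
    rw [← hi2, show i ^ 2 * a * (i ^ 2)⁻¹ = i * (i * a * i⁻¹) * i⁻¹ by rw [sq]; group]
    rcases hai with h | h
    · rw [h, h]
    · rw [h, show i * a⁻¹ * i⁻¹ = (i * a * i⁻¹)⁻¹ by group, h, inv_inv]
  set a' := y⁻¹ * a * y with ha'
  have ha'J : a' ∈ cj y⁻¹ J := conj_mem_ycomp haJ
  have ha'S : a' ∈ S := mul_mem (mul_mem (inv_mem hyS) haS) hyS
  have haa : a * a' = a' * a := comm_of_ne c.hJc c.ycomp c.ycomp_ne hS haJ ha'J haS ha'S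
  have ha2 := c.hJ.four_sq haJ ha4
  set δ := a' * a⁻¹ with hδ
  have ha'2 : a' ^ 2 = zJ := by
    rw [ha', show y⁻¹ * a * y = y⁻¹ * a * (y⁻¹)⁻¹ by rw [inv_inv], conj_pow, ha2, inv_inv, mul_assoc,
      ← c.hyz, inv_mul_cancel_left]
  have hδ2 : orderOf δ = 2 := by
    refine orderOf_eq_prime ?_ ?_
    · rw [hδ, (show Commute a a' from haa).inv_left.symm.mul_pow, ha'2, inv_pow, ha2, mul_inv_cancel]
    · intro h1
      rw [hδ, mul_inv_eq_one] at h1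
      exact c.ycomp_ne (eq_of_mem c.hJ c.hJc c.ycomp haJ (h1 ▸ ha'J) (two_el_of_four ha4) (by omega)).symm
  have hδy : y * δ = a * y * a⁻¹ := by rw [hδ, ha']; group
  have haH : a ∈ cen zK := mem_cen.mpr hazK
  have hK2 := isPC_conj_mem c.hKc haH
  have hyzK : y * zK = zK * y := (c.hK.z_comm c.hyK).symm
  rcases hai with hia | hia
  swap
  · -- `i` inverts `a`
    have h1 : i⁻¹ * a * i = a⁻¹ :=
      calc i⁻¹ * a * i = (i⁻¹ * (i * a * i⁻¹) * i)⁻¹ := by rw [hia]; group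
        _ = a⁻¹ := by group
    have haia : a * i * a⁻¹ = i * zJ := by
      calc a * i * a⁻¹ = i * (i⁻¹ * a * i) * a⁻¹ := by group
        _ = i * (a ^ 2)⁻¹ := by rw [h1]; group
        _ = i * zJ := by rw [ha2, inv_of_two c.hJ.inv]
    have hne : K ≠ cj a K := fun e => c.zJ_not_mem (by
      have h2 : a * i * a⁻¹ ∈ K := e.ge (conj_mem_cj a hiK)
      rw [haia] at h2
      simpa using mul_mem (inv_mem hiK) h2)
    have hyyd : y * (y * δ) = y * δ * y := by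
      refine comm_of_ne c.hKc hK2 hne hS c.hyK (hδy ▸ conj_mem_cj a c.hyK) hyS ?_
      exact mul_mem hyS (mul_mem ha'S (inv_mem haS))
    have hyd : Commute y δ := by
      have : y * (y * δ) = y * (δ * y) := by rw [hyyd, mul_assoc]
      exact mul_left_cancel this
    have h2 : (a * y * a⁻¹) ^ m = i := by
      rw [← hδy, hyd.mul_pow, hmeven, pow_mul δ, sq δ, sq_one_of_two hδ2, one_pow, mul_one, ← hmeven]
    rw [conj_pow, ← hi, haia, mul_eq_left] at h2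
    exact absurd h2 (fun h => by
      have := c.hJ.inv
      rw [h, orderOf_one] at this
      omega)
  -- `i` centralizes `a`
  have haK : cj a K = K := by
    refine eq_of_mem c.hK c.hKc hK2 hiK ?_ (two_el_of_four hi4) (by omega)
    have := conj_mem_cj a hiK
    rwa [(mul_inv_eq_iff_eq_mul.mp hia).symm, mul_inv_cancel_right] at this
  have hδK : δ ∈ K := by
    have h1 : a * y * a⁻¹ ∈ K := haK.le (conj_mem_cj a c.hyK)
    rw [← hδy] at h1
    simpa using mul_mem (inv_mem c.hyK) h1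
  have hδz : δ = zK := c.hK.uniq δ hδK hδ2
  have ha'eq : a' = zK * a := mul_inv_eq_iff_eq_mul.mp hδz
  have hya : y * a * y⁻¹ = a' := by
    calc y * a * y⁻¹ = zK * zK * (y * a * y⁻¹) := by rw [sq_one_of_two c.hK.inv, one_mul]
      _ = zK * (y * (zK * a) * y⁻¹) := by rw [mul_assoc, ← mul_assoc y zK a, hyzK]; group
      _ = zK * a := by rw [show y * (zK * a) * y⁻¹ = a by rw [← ha'eq, ha']; group]
      _ = a' := ha'eq.symm
  have hya' : y * a' * y⁻¹ = a := by rw [ha']; group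
  set M1 := cen zJ ⊓ (cen a ⊓ cen a') with hM1
  have hM1J : M1 ≤ normalizer (J : Set G) := by
    intro x hx
    obtain ⟨hxM, hx'⟩ := mem_inf.mp hx
    refine mem_normalizer_of_cj_eq (eq_of_mem c.hJ c.hJc (isPC_conj_mem c.hJc hxM) haJ ?_
      (two_el_of_four ha4) (by omega))
    have := conj_mem_cj x haJ
    rwa [mem_cen.mp (mem_inf.mp hx').1, mul_inv_cancel_right] at this
  have hyM1 : y ∈ normalizer (M1 : Set G) := by
    refine mem_normalizer_of_maps fun x hx => ?_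
    obtain ⟨hxM, hxa, hxa'⟩ : x ∈ cen zJ ∧ x ∈ cen a ∧ x ∈ cen a' :=
      ⟨(mem_inf.mp hx).1, mem_inf.mp (mem_inf.mp hx).2⟩
    refine mem_inf.mpr ⟨mul_mem (mul_mem hyM hxM) (inv_mem hyM), mem_inf.mpr ⟨?_, ?_⟩⟩
    · have := (cj_cen y a').le (conj_mem_cj y hxa')
      rwa [hya'] at this
    · have := (cj_cen y a).le (conj_mem_cj y hxa)
      rwa [hya] at this
  set H1 := M1 ⊔ zpowers y with hH1
  have hyH1 : y ∈ H1 := le_sup_right (a := M1) (mem_zpowers y)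
  have hH1M : H1 ≤ cen zJ := sup_le inf_le_left (zpowers_le.mpr hyM)
  set C1 := J ⊓ M1 with hC1
  have hC1H : C1 ≤ H1 := inf_le_right.trans le_sup_left
  have hC1sn : (C1.subgroupOf H1).IsSubnormal := by
    have hM1n : (M1.subgroupOf H1).Normal := (normal_subgroupOf_iff_le_normalizer le_sup_left).mpr
      (sup_le le_normalizer (zpowers_le.mpr hyM1))
    refine Subgroup.IsSubnormal.step _ _ (Subgroup.comap_mono inf_le_right)
      (Subgroup.Normal.isSubnormal hM1n) ?_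
    refine (normal_subgroupOf_iff_le_normalizer (Subgroup.comap_mono inf_le_right)).mpr fun x hx => ?_
    refine mem_normalizer_of_maps fun q hq => ?_
    exact mem_inf.mpr ⟨(mem_normalizer_iff.mp (hM1J hx) (q : G)).mp (mem_inf.mp hq).1,
      mul_mem (mul_mem hx (mem_inf.mp hq).2) (inv_mem hx)⟩
  obtain ⟨P, hP⟩ := ((isPGroup_zpowers hy2el).of_equiv
    (subgroupOfEquivOfLe (zpowers_le.mpr hyH1)).symm).exists_le_sylow
  set S' := (P : Subgroup ↥H1).map H1.subtype with hS'def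
  have hS' : IsPGroup 2 ↥S' := P.2.map _
  have hyS' : y ∈ S' := ⟨⟨y, hyH1⟩, hP (mem_zpowers y), rfl⟩
  have hQ' : Syl C1 (S' ⊓ C1) := by
    obtain ⟨-, hp, hidx⟩ := isSylowIn_inf_of_subnormal P hC1sn
    have e : S' ⊓ C1 = ((P : Subgroup ↥H1) ⊓ C1.subgroupOf H1).map H1.subtype := by
      rw [map_inf _ _ _ H1.subtype_injective, map_subgroupOf_eq_of_le hC1H]
    refine ⟨inf_le_right, e ▸ hp.map _, ?_⟩
    have h1 := relIndex_map_map_of_injective ((P : Subgroup ↥H1) ⊓ C1.subgroupOf H1) (C1.subgroupOf H1)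
      H1.subtype_injective
    rw [map_subgroupOf_eq_of_le hC1H] at h1
    rw [e, h1]
    exact hidx
  -- a root of `a` in `C_J(a, a')`
  obtain ⟨db, hdbo, hdbm⟩ := c.hK.oneInv.exists_root c.hJ.oneInv hcard
    (y := bar 2 ↥K ⟨y, c.hyK⟩) (k := k + 1) (by rw [bar_order c.hyK hy2el, hyo])
    (a := bar 2 ↥J ⟨a, haJ⟩) (by rw [bar_order haJ (two_el_of_four ha4), ha4])
  set K1 := ((zpowers db).comap (bar 2 ↥J)).map J.subtype with hK1
  have hK1J : K1 ≤ J := map_subtype_le _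
  have hOmK1 : Om 2 J ≤ K1 := by
    rintro _ ⟨w, hw, rfl⟩
    exact ⟨w, by rw [SetLike.mem_coe, mem_comap, QuotientGroup.mk'_apply,
      (QuotientGroup.eq_one_iff w).mpr hw]; exact one_mem _, rfl⟩
  set A := zpowers a ⊔ zpowers a' with hAdef
  have hA2 : IsPGroup 2 ↥A := (isPGroup_zpowers (two_el_of_four ha4)).to_sup_of_normal_right'
    (isPGroup_zpowers (two_el_of_four (by
      rw [ha', show y⁻¹ * a * y = y⁻¹ * a * (y⁻¹)⁻¹ by rw [inv_inv], orderOf_conj', ha4])))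
    (zpowers_le.mpr (mem_normalizer_of_maps fun x hx => by
      obtain ⟨j, rfl⟩ := mem_zpowers_iff.mp hx
      rw [((show Commute a a' from haa).zpow_right j).eq, mul_inv_cancel_right]
      exact hx))
  have hAK : ∀ g ∈ A, ∀ q ∈ K1, g * q * g⁻¹ * q⁻¹ ∈ Om 2 J := by
    intro g hg q hq
    have hg' : g ∈ ((zpowers a ⊔ zpowers a' : Subgroup G) : Set G) := hg
    rw [coe_mul_of_left_le_normalizer_right (zpowers a) (zpowers a') (zpowers_le.mpr
      (mem_normalizer_of_maps fun x hx => by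
        obtain ⟨j, rfl⟩ := mem_zpowers_iff.mp hx
        rw [((show Commute a a' from haa).zpow_right j).eq, mul_inv_cancel_right]
        exact hx))] at hg'
    obtain ⟨g1, hg1, g2, hg2, rfl⟩ := hg'
    have hg2C : g2 ∈ Cb J :=
      zpowers_le.mpr (pcomp_le_Cb c.hJc c.ycomp c.ycomp_ne ha'J) hg2
    have hg1J : g1 ∈ J := zpowers_le.mpr haJ hg1
    obtain ⟨⟨q, hqJ⟩, hq, rfl⟩ := hq
    have hin : g1 * q * g1⁻¹ * q⁻¹ ∈ Om 2 J := by
      refine ⟨⟨g1, hg1J⟩ * ⟨q, hqJ⟩ * ⟨g1, hg1J⟩⁻¹ * ⟨q, hqJ⟩⁻¹, (QuotientGroup.eq_one_iff _).mp ?_, rfl⟩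
      show bar 2 ↥J (_ * _ * _ * _) = 1
      obtain ⟨l, hl⟩ := mem_zpowers_iff.mp (mem_comap.mp hq)
      obtain ⟨j, rfl⟩ := mem_zpowers_iff.mp hg1
      have e : bar 2 ↥J ⟨a ^ j, hg1J⟩ = (db ^ 2 ^ (k + 1)) ^ j := by
        rw [hdbm, ← map_zpow]; rfl
      rw [map_mul, map_mul, map_mul, map_inv, map_inv, e, ← hl, ← zpow_natCast, ← zpow_mul,
        (Commute.zpow_zpow_self db _ _).eq]
      group
    have h2 := mul_mem ((mem_normalizer_iff.mp (le_normalizer_Om J hg1J) _).mp (hg2C.2 q hqJ)) hin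
    simpa [mul_assoc] using h2
  obtain ⟨⟨d0, hd0⟩, hd0b⟩ := bar_surjective 2 db
  have hd0K : d0 ∈ K1 := ⟨⟨d0, hd0⟩, by rw [SetLike.mem_coe, mem_comap, hd0b]; exact mem_zpowers _, rfl⟩
  obtain ⟨w, hw, hwfix⟩ := exists_fixed_lift_group hOmK1 (hK1J.trans (le_normalizer_Om J))
    (card_Om_coprime J) hA2 hAK hd0K
  have hd1J : d0 * w ∈ J := mul_mem hd0 (Om_le J hw)
  have hd1C : d0 * w ∈ C1 := mem_inf.mpr ⟨hd1J, mem_inf.mpr ⟨c.hJc.le hd1J, mem_inf.mpr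
    ⟨mem_cen.mpr (hwfix a (le_sup_left (b := zpowers a') (mem_zpowers a))).symm,
      mem_cen.mpr (hwfix a' (le_sup_right (a := zpowers a) (mem_zpowers a'))).symm⟩⟩⟩
  have hdbC : db ∈ (C1.subgroupOf J).map (bar 2 ↥J) := by
    refine ⟨⟨d0 * w, hd1J⟩, hd1C, ?_⟩
    obtain ⟨w', hw', rfl⟩ := hw
    rw [show (⟨d0 * J.subtype w', hd1J⟩ : ↥J) = ⟨d0, hd0⟩ * w' from rfl, map_mul, hd0b,
      show bar 2 ↥J w' = 1 from (QuotientGroup.eq_one_iff w').mpr hw', mul_one]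
  obtain ⟨⟨d1, hd1⟩, hd1C', ⟨j, hj⟩, hd1b⟩ := exists_lift (p := 2) (bar 2 ↥J) _ hdbC (k := k + 3)
    (by rw [show (2 : ℕ) ^ (k + 3) = 4 * 2 ^ (k + 1) by ring, ← hdbo, pow_orderOf_eq_one])
  have hd1el : ∃ j, d1 ^ 2 ^ j = 1 := ⟨j, congrArg Subtype.val hj⟩
  have hd1o : orderOf d1 = 4 * m := by rw [← bar_order hd1 hd1el, hd1b, hdbo]
  obtain ⟨-, hd1a, hd1a'⟩ : d1 ∈ cen zJ ∧ d1 ∈ cen a ∧ d1 ∈ cen a' :=
    ⟨(mem_inf.mp (mem_inf.mp hd1C').2).1, mem_inf.mp (mem_inf.mp (mem_inf.mp hd1C').2).2⟩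
  have hd1m : d1 ^ m = a := by
    have hb : bar 2 ↥J ⟨d1, hd1⟩ ^ m = bar 2 ↥J ⟨a, haJ⟩ := by rw [hd1b, hdbm]
    rw [bar_mk_pow] at hb
    have h1 := QuotientGroup.eq.mp hb
    have h2 : (d1 ^ m)⁻¹ * a ∈ Om 2 J := ⟨_, h1, rfl⟩
    refine inv_mul_eq_one.mp (commute_of_mem_inter (card_Om_coprime J) h2 ⟨k + 3, ?_⟩)
    rw [(show Commute d1 a from mem_cen.mp hd1a).pow_left m |>.inv_left.mul_pow, inv_pow, ← pow_mul,
      mul_comm m, pow_mul]
    rw [show (2 : ℕ) ^ (k + 3) = 4 * m by rw [hm]; ring]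
    rw [← hd1o, pow_orderOf_eq_one, one_pow, inv_one, one_mul, hd1o, pow_mul, ← ha4,
      pow_orderOf_eq_one, one_pow]
  obtain ⟨x, hx, hxd⟩ := hQ'.exists_conj (d := d1) hd1C' hd1el
  set d := x * d1 * x⁻¹ with hddef
  obtain ⟨hdS', hdC1⟩ := mem_inf.mp hxd
  obtain ⟨hdJ, hdM1⟩ := mem_inf.mp hdC1
  have hxa : x * a = a * x := mem_cen.mp (mem_inf.mp (mem_inf.mp (mem_inf.mp hx).2).2).1
  have hdm : d ^ m = a := by rw [hddef, conj_pow, hd1m, hxa, mul_inv_cancel_right]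
  have hdo : orderOf d = 4 * m := by rw [hddef, orderOf_conj', hd1o]
  have hda : Commute d a := mem_cen.mp (mem_inf.mp (mem_inf.mp hdM1).2).1
  have hda' : Commute d a' := mem_cen.mp (mem_inf.mp (mem_inf.mp hdM1).2).2
  set d' := y⁻¹ * d * y with hd'
  have hd'S : d' ∈ S' := mul_mem (mul_mem (inv_mem hyS') hdS') hyS'
  have hdd' : Commute d d' :=
    comm_of_ne c.hJc c.ycomp c.ycomp_ne hS' hdJ (conj_mem_ycomp hdJ) hdS' hd'S
  set e := d' * d⁻¹ with he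
  have hdzK : d * zK = zK * d := by
    rw [← hδz]; exact (hda'.mul_right hda.inv_right).eq
  have hd'm : d' ^ m = a' := by
    rw [hd', show y⁻¹ * d * y = y⁻¹ * d * (y⁻¹)⁻¹ by rw [inv_inv], conj_pow, hdm, inv_inv, ha']
  have hem : e ^ m = zK := by rw [he, hdd'.inv_left.symm.mul_pow, inv_pow, hdm, hd'm, ← hδ, hδz]
  have hdy : d * y * d⁻¹ = y * e := by rw [he, hd']; group
  have hdi : d * i * d⁻¹ = (y * e) ^ m := by rw [hi, ← conj_pow, hdy]
  have hdH : d ∈ cen zK := mem_cen.mpr hdzK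
  have hyeS : y * e ∈ S' := mul_mem hyS' (mul_mem hd'S (inv_mem hdS'))
  by_cases hne : K = cj d K
  swap
  · have hye : y * (y * e) = y * e * y :=
      comm_of_ne c.hKc (isPC_conj_mem c.hKc hdH) hne hS' c.hyK (hdy ▸ conj_mem_cj d c.hyK) hyS' hyeS
    have hye' : Commute y e := by
      have : y * (y * e) = y * (e * y) := by rw [hye, mul_assoc]
      exact mul_left_cancel this
    have h1 : d * i * d⁻¹ ∈ K := by
      rw [hdi, hye'.mul_pow, ← hi, hem]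
      exact mul_mem hiK c.hK.mem
    exact hne (eq_of_mem c.hK c.hKc (isPC_conj_mem c.hKc hdH) h1 (conj_mem_cj d hiK)
      (two_el_of_four (by rw [orderOf_conj', hi4])) (by rw [orderOf_conj', hi4])).symm
  have heK : e ∈ K := by
    have h1 : d * y * d⁻¹ ∈ K := hne.ge (conj_mem_cj d c.hyK)
    rw [hdy] at h1
    simpa using mul_mem (inv_mem c.hyK) h1
  have hiS' : i ∈ S' := pow_mem hyS' m
  set B := S' ⊓ (J ⊓ cen a) with hB
  haveI hBc : IsCyclic ↥B := c.hJ.cyclic_of_comm haJ ha4 (inf_le_right.trans inf_le_left)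
    (hS'.to_le inf_le_left) (fun b hb => mem_cen.mp (mem_inf.mp (mem_inf.mp hb).2).2)
  set eps := d⁻¹ * (i * d * i⁻¹) with heps
  have hia' : Commute i a := mul_inv_eq_iff_eq_mul.mp hia
  have hepsB : eps ∈ B := mem_inf.mpr ⟨mul_mem (inv_mem hdS') (mul_mem (mul_mem hiS' hdS') (inv_mem hiS')),
    mem_inf.mpr ⟨mul_mem (inv_mem hdJ) ((mem_normalizer_iff.mp hiJ d).mp hdJ),
      mem_cen.mpr (hda.inv_left.mul_left ((hia'.mul_left hda).mul_left hia'.inv_left)).eq⟩⟩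
  have hieps : i * eps * i⁻¹ = eps⁻¹ := by
    calc i * eps * i⁻¹ = (i * d⁻¹ * i⁻¹) * (i ^ 2 * d * (i ^ 2)⁻¹) := by rw [heps]; group
      _ = (i * d⁻¹ * i⁻¹) * d := by rw [hi2, ← hdzK, mul_inv_cancel_right]
      _ = eps⁻¹ := by rw [heps]; group
  have heps2 : eps = 1 ∨ eps = zJ := by
    obtain ⟨l, hl⟩ := IsPGroup.iff_orderOf.mp (hS'.to_le (inf_le_left : B ≤ S')) ⟨eps, hepsB⟩
    rw [orderOf_mk] at hl
    rcases l with _ | _ | l
    · left; simpa [orderOf_eq_one_iff] using hl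
    · right; exact c.hJ.uniq eps (mem_inf.mp (mem_inf.mp hepsB).2).1 (by rw [hl]; norm_num)
    exfalso
    set η := eps ^ 2 ^ l
    have hη4 : orderOf η = 4 := by
      rw [orderOf_pow' eps (by positivity), hl, Nat.gcd_eq_right (pow_dvd_pow 2 (by omega)),
        Nat.pow_div (by omega) two_pos, show l + 1 + 1 - l = 2 by omega]
      rfl
    have hiη : i * η * i⁻¹ = η⁻¹ := by rw [← conj_pow, hieps, inv_pow]
    have hfixη : i * η * i⁻¹ = η := by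
      obtain ⟨g, hg⟩ := hBc.exists_generator
      have hin : ∀ b, b ∈ B → b ∈ zpowers (g : G) := fun b hb => by
        obtain ⟨r, hr⟩ := mem_zpowers_iff.mp (hg ⟨b, hb⟩)
        exact mem_zpowers_iff.mpr ⟨r, congrArg Subtype.val hr⟩
      have haB : a ∈ B := mem_inf.mpr ⟨hdm ▸ pow_mem hdS' m, mem_inf.mpr ⟨haJ, mem_cen.mpr rfl⟩⟩
      rcases four_eq_or_inv (hin a haB) (hin η (pow_mem hepsB _)) ha4 hη4 with h | h
      · rw [h]; exact hia
      · rw [h]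
        calc i * a⁻¹ * i⁻¹ = (i * a * i⁻¹)⁻¹ := by group
          _ = a⁻¹ := by rw [hia]
    have h1 : η * η = 1 := eq_inv_iff_mul_eq_one.mp (hfixη.symm.trans hiη)
    have := Nat.le_of_dvd two_pos (orderOf_dvd_of_pow_eq_one ((sq η).trans h1))
    omega
  have hyeps : y⁻¹ * eps * y = eps := by
    rcases heps2 with h | h <;> rw [h]
    · group
    · rw [mul_assoc, ← c.hyz, inv_mul_cancel_left]
  have hiy : i * y⁻¹ = y⁻¹ * i := ((Commute.refl y).pow_left m).inv_right.eq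
  have hiy' : y * i⁻¹ = i⁻¹ * y := ((Commute.refl y).pow_right m).inv_right.eq
  have hie : i * e * i⁻¹ = e := by
    have h1 : i * d' * i⁻¹ = d' * eps := by
      calc i * d' * i⁻¹ = (i * y⁻¹) * d * (y * i⁻¹) := by rw [hd']; group
        _ = y⁻¹ * (i * d * i⁻¹) * y := by rw [hiy, hiy']; group
        _ = y⁻¹ * (d * eps) * y := by rw [show i * d * i⁻¹ = d * eps by rw [heps]; group]
        _ = (y⁻¹ * d * y) * (y⁻¹ * eps * y) := by group
        _ = d' * eps := by rw [hyeps]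
    calc i * e * i⁻¹ = (i * d' * i⁻¹) * (i * d * i⁻¹)⁻¹ := by rw [he]; group
      _ = e := by rw [h1, show i * d * i⁻¹ = d * eps by rw [heps]; group, he]; group
  set B2 := S' ⊓ (K ⊓ cen i) with hB2
  have hB2c : IsCyclic ↥B2 := c.hK.cyclic_of_comm hiK hi4 (inf_le_right.trans inf_le_left)
    (hS'.to_le inf_le_left) (fun b hb => mem_cen.mp (mem_inf.mp (mem_inf.mp hb).2).2)
  have hyB2 : y ∈ B2 :=
    mem_inf.mpr ⟨hyS', mem_inf.mpr ⟨c.hyK, mem_cen.mpr ((Commute.refl y).pow_right m).eq⟩⟩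
  have heB2 : e ∈ B2 := mem_inf.mpr ⟨mul_mem hd'S (inv_mem hdS'),
    mem_inf.mpr ⟨heK, mem_cen.mpr (mul_inv_eq_iff_eq_mul.mp hie).symm⟩⟩
  have hen : e ^ orderOf y = 1 := by
    rw [hyo, mul_comm, pow_mul, hem]
    rw [show (4 : ℕ) = 2 * 2 from rfl, pow_mul, sq zK, sq_one_of_two c.hK.inv, one_pow]
  obtain ⟨t, -, ht⟩ : ∃ t : ℕ, t < orderOf y ∧ y ^ t = e := by
    classical
    simpa [mem_zpowers_iff_mem_range_orderOf] using mem_zpowers_of_cyclic hB2c hyB2 heB2 hen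
  have hde : Commute d e := hdd'.mul_right (Commute.refl d).inv_right
  have hyt : y ^ t = (y * e) ^ t := by
    have h1 : d * e * d⁻¹ = e := by rw [hde.eq, mul_inv_cancel_right]
    rw [← ht, ← conj_pow, hdy] at h1
    rw [ht] at h1 ⊢
    exact h1.symm
  have hdvd : 4 * m ∣ t * t := by
    rw [← ht, ← pow_succ', ← pow_mul, show (t + 1) * t = t + t * t by ring, pow_add,
      left_eq_mul] at hyt
    rw [← hyo]
    exact orderOf_dvd_of_pow_eq_one hyt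
  have htm : y ^ (t * m) = y ^ (2 * m) := by
    rw [pow_mul, ht, hem, ← hi2, hi, ← pow_mul, mul_comm]
  have hmod : t % 4 = 2 := by
    have h1 := pow_eq_pow_iff_modEq.mp htm
    rw [hyo] at h1
    have h2 : t ≡ 2 [MOD 4] := Nat.ModEq.mul_right_cancel' (by positivity) h1
    simpa [Nat.ModEq] using h2
  have h8 : 8 ∣ t * t := (Dvd.intro (2 ^ k) (by rw [hmeven]; ring)).trans hdvd
  obtain ⟨q, hq⟩ : ∃ q, t = 4 * q + 2 := ⟨t / 4, by omega⟩
  rw [hq, show (4 * q + 2) * (4 * q + 2) = 16 * (q * q + q) + 4 by ring] at h8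
  omega

end Cfg

/-- Part (i). -/
theorem partB {zJ zK : G} {J K : Subgroup G} (hJ : QT zJ J) (hJc : IsPC 2 J (cen zJ)) (hK : QT zK K)
    (hKc : IsPC 2 K (cen zK))
    (hcard : Nat.card (↥J ⧸ pPrimeCore 2 ↥J) = Nat.card (↥K ⧸ pPrimeCore 2 ↥K)) {y : G} (hyK : y ∈ K)
    (h2 : ∃ k, y ^ 2 ^ k = 1) (h4 : 4 ≤ orderOf y) (hyz : y * zJ = zJ * y) :
    y ∈ normalizer (J : Set G) := by
  classical
  have hsc : sc J = sc K := by
    have h1 := hJ.sc_eq
    have h2 := hK.sc_eq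
    omega
  obtain ⟨k, hk⟩ := h2
  have hpow : ∀ {w : G}, w ^ 2 ^ k = 1 → 4 ≤ orderOf w → ∃ j, orderOf w = 4 * 2 ^ j := by
    intro w hw hw4
    obtain ⟨l, -, hl⟩ := (Nat.dvd_prime_pow Nat.prime_two).mp (orderOf_dvd_of_pow_eq_one hw)
    rcases l with _ | _ | l
    · simp [hl] at hw4
    · simp [hl] at hw4
    · exact ⟨l, by rw [hl]; ring⟩
  obtain ⟨j, hj⟩ := hpow hk h4
  have hi4 : orderOf (y ^ 2 ^ j) = 4 := by
    rw [orderOf_pow' y (by positivity), hj, Nat.gcd_eq_right (Dvd.intro_left 4 rfl),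
      Nat.mul_div_cancel _ (by positivity)]
  have hzJzK : zJ * zK = zK * zJ := by
    rw [← hK.four_sq (pow_mem hyK _) hi4]
    exact ((show Commute y zJ from hyz).symm.pow_right _).pow_right _ |>.eq
  have hzJH : zJ ∈ cen zK := mem_cen.mpr hzJzK
  have hn : zJ ∈ normalizer (K : Set G) := by
    refine mem_normalizer_of_cj_eq (eq_of_mem hK hKc (isPC_conj_mem hKc hzJH) hyK ?_ ⟨k, hk⟩ h4)
    have := conj_mem_cj zJ hyK
    rwa [← hyz, mul_inv_cancel_right] at this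
  have hzKJ := partA hJ hJc hK hKc hsc hn
  by_cases hCb : zJ ∈ Cb K
  · obtain ⟨hP, -, -, -⟩ := hK.fix hKc hJ.inv hCb hzJzK.symm
    have := balance (s := zJ) (t := zK) hK.inv hzJzK.symm (by rwa [inf_comm] at hP)
    exact layer_le_normalizer hJc (this (mem_fixPC hyK ⟨k, hk⟩ hyz))
  have hzKCb : zK ∉ Cb J := by
    intro h
    obtain ⟨hP, hPQ, hPsc, -⟩ := hJ.fix hJc hK.inv h hzJzK
    have hle := (balance (s := zK) (t := zJ) hJ.inv hzJzK (by rwa [inf_comm] at hP)).trans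
      (layer_le_sup_Cb hKc)
    rcases HOM hK.qs hP.qs hP.pel (hPsc.trans hsc) hle hn
      (fun r hr => (mem_cen.mp (mem_inf.mp (hP.le hr)).1).symm) with h' | h'
    · exact hCb (h' hPQ.mem)
    · exact hCb h'
  by_contra hyJ
  -- pass to the last power outside `N(J)`
  have hex : ∃ l, y ^ 2 ^ l ∈ normalizer (J : Set G) := ⟨k, by rw [hk]; exact one_mem _⟩
  obtain ⟨l, hl⟩ : ∃ l, Nat.find hex = l + 1 :=
    ⟨Nat.find hex - 1, by
      have : Nat.find hex ≠ 0 := fun h => hyJ (by simpa [h] using Nat.find_spec hex)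
      omega⟩
  set w := y ^ 2 ^ l with hw
  have hwJ : w ∉ normalizer (J : Set G) := Nat.find_min hex (by omega)
  have hw2J : w ^ 2 ∈ normalizer (J : Set G) := by
    rw [hw, ← pow_mul, ← pow_succ, ← hl]; exact Nat.find_spec hex
  have hwk : w ^ 2 ^ k = 1 := by
    rw [hw, ← pow_mul, mul_comm, pow_mul, hk, one_pow]
  have hw4 : 4 ≤ orderOf w := by
    obtain ⟨r, -, hr⟩ := (Nat.dvd_prime_pow Nat.prime_two).mp (orderOf_dvd_of_pow_eq_one hwk)
    rcases r with _ | _ | r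
    · exact absurd (orderOf_eq_one_iff.mp (by simpa using hr)) (fun h => hwJ (by rw [h]; exact one_mem _))
    · exact absurd (hK.uniq w (pow_mem hyK _) (by simpa using hr)) (fun h => hwJ (h ▸ hzKJ))
    · rw [hr, show (2 : ℕ) ^ (r + 1 + 1) = 4 * 2 ^ r by ring]
      exact Nat.le_mul_of_pos_right 4 (by positivity)
  obtain ⟨r, hr⟩ := hpow hwk hw4
  have c : Cfg zJ zK J K w := ⟨hJ, hJc, hK, hKc, hsc, pow_mem hyK _,
    ((show Commute y zJ from hyz).pow_left _).eq, hn, hCb, hwJ⟩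
  rcases r with _ | r
  · exact c.false_four (by simpa using hr) hzKJ hzKCb
  · exact c.false_eight hr hw2J hcard

end CfsgLib.TwoCompFour
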