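import Cfsg.Prelude.Def_CaseTheorems
import Cfsg.Agent.Lib.TwoCompFour.Quat
import Cfsg.Agent.S0111
import Cfsg.Agent.S0219

/-! Quasisimple groups with trivial odd core and only one involution. -/

set_option autoImplicit false

namespace CfsgLib.TwoCompFour

universe u v

open Subgroup Cfsg
open scoped commutatorElement

/-- Quasisimple, no odd core, one involution `z`. -/
structure OneInv (X : Type u) [Group X] (z : X) : Prop where
  qs : IsQuasisimple X
  core : pPrimeCore 2 X = ⊥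
  inv : UniqInv z

theorem eq_or_inv_of_pow_four {G : Type u} [Group G] {h x : G} (h4 : h ^ 4 = 1) (hx : x ∈ zpowers h)
    (hxo : orderOf x = 4) : x = h ∨ x = h⁻¹ := by
  obtain ⟨k, rfl⟩ := mem_zpowers_iff.mp hx
  have e : h ^ k = h ^ (k % 4) := by
    conv_lhs => rw [← Int.emod_add_mul_ediv k 4, zpow_add, zpow_mul, zpow_ofNat h 4, h4, one_zpow, mul_one]
  have h04 : 0 ≤ k % 4 ∧ k % 4 < 4 := ⟨Int.emod_nonneg _ (by norm_num), Int.emod_lt_of_pos _ (by norm_num)⟩
  obtain ⟨r, hr⟩ := Int.eq_ofNat_of_zero_le h04.1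
  rw [e, hr, zpow_natCast] at hxo ⊢
  have hr4 : r < 4 := by omega
  interval_cases r
  · simp at hxo
  · left; rw [pow_one]
  · have : (h ^ 2) ^ 2 = 1 := by rw [← pow_mul]; exact h4
    have := Nat.le_of_dvd two_pos (orderOf_dvd_of_pow_eq_one this)
    omega
  · right; rw [eq_inv_iff_mul_eq_one, ← pow_succ]; exact h4

theorem four_eq_or_inv {G : Type u} [Group G] [Finite G] {g a b : G} (ha : a ∈ zpowers g)
    (hb : b ∈ zpowers g) (hao : orderOf a = 4) (hbo : orderOf b = 4) : b = a ∨ b = a⁻¹ := by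
  obtain ⟨t, ht⟩ : 4 ∣ orderOf g := hao ▸ orderOf_dvd_of_mem_zpowers ha
  have key : ∀ x ∈ zpowers g, orderOf x = 4 → x = g ^ t ∨ x = (g ^ t)⁻¹ := by
    intro x hx hxo
    refine eq_or_inv_of_pow_four (by rw [← pow_mul, mul_comm, ← ht, pow_orderOf_eq_one]) ?_ hxo
    obtain ⟨k, rfl⟩ := mem_zpowers_iff.mp hx
    have h1 : g ^ (k * 4) = 1 := by rw [zpow_mul, zpow_ofNat, ← hxo, pow_orderOf_eq_one]
    have h2 := orderOf_dvd_iff_zpow_eq_one.mpr h1
    rw [ht, Nat.cast_mul, mul_comm k, show ((4 : ℕ) : ℤ) = 4 from rfl,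
      mul_dvd_mul_iff_left (by norm_num : (4 : ℤ) ≠ 0)] at h2
    obtain ⟨c, rfl⟩ := h2
    exact mem_zpowers_iff.mpr ⟨c, by rw [zpow_mul, zpow_natCast]⟩
  rcases key a ha hao with rfl | rfl <;> rcases key b hb hbo with rfl | rfl
  all_goals simp

namespace OneInv

variable {X : Type u} [Group X] [Finite X] {z : X}

theorem sq_z (h : OneInv X z) : z ^ 2 = 1 := by rw [← h.inv.1, pow_orderOf_eq_one]

theorem z_ne_one (h : OneInv X z) : z ≠ 1 := by
  intro e
  have := h.inv.1
  rw [e, orderOf_one] at this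
  omega

theorem z_comm (h : OneInv X z) (x : X) : x * z = z * x := by
  refine mul_inv_eq_iff_eq_mul.mp (h.inv.2 _ ?_)
  rw [show x * z * x⁻¹ = MulAut.conj x z from rfl, MulEquiv.orderOf_eq, h.inv.1]

theorem z_mem_center (h : OneInv X z) : z ∈ center X := mem_center_iff.mpr fun x => h.z_comm x

theorem four_sq (h : OneInv X z) {i : X} (hi : orderOf i = 4) : i ^ 2 = z :=
  sq_eq_of_four (Q := ⊤) (mem_top _) hi fun x _ hx => h.inv.2 x hx

theorem commutator_not_le (h : OneInv X z) {M : Subgroup X} (hM : M.index = 2) : False := by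
  haveI := h.qs.1
  haveI : M.Normal := Subgroup.normal_of_index_eq_two hM
  have hc : ∀ a b : X ⧸ M, a * b = b * a := by
    have hcard : Nat.card (X ⧸ M) = 2 := by rw [← Subgroup.index_eq_card, hM]
    haveI : IsCyclic (X ⧸ M) := isCyclic_of_prime_card (p := 2) hcard
    exact fun a b => IsCyclic.commGroup.mul_comm a b
  have hle : commutator X ≤ M := by
    rw [commutator_eq_closure, closure_le]
    rintro _ ⟨a, b, rfl⟩
    show ⁅a, b⁆ ∈ M
    rw [← QuotientGroup.eq_one_iff, commutatorElement_def]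
    simp only [QuotientGroup.mk_mul, QuotientGroup.mk_inv]
    rw [hc (a : X ⧸ M) b]
    group
  rw [Group.IsPerfect.commutator_eq_top, top_le_iff] at hle
  rw [hle, index_top] at hM
  omega

theorem z_mem_sylow (h : OneInv X z) (P : Sylow 2 X) : z ∈ P := by
  have hZ : IsPGroup 2 (zpowers z) := IsPGroup.of_card (n := 1) (by rw [Nat.card_zpowers, h.inv.1, pow_one])
  haveI : (zpowers z).Normal := ⟨fun x hx g => by
    obtain ⟨k, rfl⟩ := mem_zpowers_iff.mp hx
    rw [((show Commute g z from h.z_comm g).zpow_right k).eq, mul_inv_cancel_right]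
    exact hx⟩
  exact hZ.le_sylow_of_normal P (mem_zpowers z)

theorem uniqInv_sub (h : OneInv X z) {T : Subgroup X} (hz : z ∈ T) : UniqInv (⟨z, hz⟩ : T) :=
  ⟨by rw [orderOf_mk, h.inv.1], fun x hx => Subtype.ext (h.inv.2 x (by rw [orderOf_coe, hx]))⟩

theorem sylow_not_cyclic (h : OneInv X z) (P : Sylow 2 X) : ¬ IsCyclic (P : Subgroup X) := by
  intro hc
  obtain ⟨M, hM⟩ := Cfsg.Agent.S0219.result
    (even_iff_two_dvd.mpr (h.inv.1 ▸ orderOf_dvd_natCard z)) P hc
  exact h.commutator_not_le hM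

theorem centralised_cyclic (h : OneInv X z) {i : X} (hi : orderOf i = 4) {B : Subgroup X}
    (hB : IsPGroup 2 B) (hc : ∀ b ∈ B, b * i = i * b) : IsCyclic B := by
  have hI : IsPGroup 2 (zpowers i) := IsPGroup.of_card (n := 2) (by rw [Nat.card_zpowers, hi]; rfl)
  have hn : B ≤ normalizer (zpowers i : Set X) := fun b hb => mem_normalizer_iff.mpr fun x => by
    have hfix : ∀ y ∈ zpowers i, b * y * b⁻¹ = y := fun y hy => by
      obtain ⟨k, rfl⟩ := mem_zpowers_iff.mp hy
      rw [((show Commute b i from hc b hb).zpow_right k).eq, mul_inv_cancel_right]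
    refine ⟨fun hx => (hfix x hx).symm ▸ hx, fun hx => ?_⟩
    have := hfix _ hx
    rw [mul_left_inj, mul_right_inj] at this
    exact this ▸ hx
  have hBI : IsPGroup 2 (B ⊔ zpowers i : Subgroup X) := hB.to_sup_of_normal_right' hI hn
  set T := B ⊔ zpowers i
  have hiT : i ∈ T := le_sup_right (a := B) (mem_zpowers i)
  have hzT : z ∈ T := h.four_sq hi ▸ pow_mem hiT 2
  have hTc : T ≤ centralizer {i} := sup_le
    (fun b hb => mem_centralizer_singleton_iff.mpr (hc b hb))
    (zpowers_le.mpr (mem_centralizer_singleton_iff.mpr rfl))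
  haveI := isCyclic_of_central_four hBI (h.uniqInv_sub hzT) (i := ⟨i, hiT⟩) (by rw [orderOf_mk, hi])
    (fun x => Subtype.ext (mem_centralizer_singleton_iff.mp (hTc x.2)))
  exact isCyclic_of_injective (inclusion (le_sup_left : B ≤ T)) (inclusion_injective _)

theorem mem_center_imp (h : OneInv X z) {x : X} (hx : x ∈ center X) : x = 1 ∨ x = z := by
  set o := orderOf x
  set e := o.factorization 2
  have hodd : x ^ 2 ^ e = 1 := by
    haveI : (zpowers (x ^ 2 ^ e)).Normal := ⟨fun y hy g => by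
      obtain ⟨k, rfl⟩ := mem_zpowers_iff.mp hy
      rw [((show Commute g x from mem_center_iff.mp hx g).pow_right _).zpow_right k |>.eq,
        mul_inv_cancel_right]
      exact hy⟩
    have hle : zpowers (x ^ 2 ^ e) ≤ pPrimeCore 2 X := le_sSup ⟨inferInstance, by
      rw [Nat.card_zpowers, orderOf_pow' x (by positivity),
        Nat.gcd_eq_right (Nat.ordProj_dvd o 2)]
      exact (Nat.coprime_ordCompl Nat.prime_two (orderOf_pos x).ne').symm⟩
    rw [h.core, le_bot_iff, zpowers_eq_bot] at hle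
    exact hle
  rcases eq_or_ne x 1 with hx1 | hx1
  · exact Or.inl hx1
  right
  obtain ⟨k, hk, hko⟩ := (Nat.dvd_prime_pow Nat.prime_two).mp (orderOf_dvd_of_pow_eq_one hodd)
  rcases k with _ | _ | k
  · simp [orderOf_eq_one_iff, hx1] at hko
  · exact h.inv.2 x (by simpa using hko)
  exfalso
  obtain ⟨P⟩ : Nonempty (Sylow 2 X) := inferInstance
  set i := x ^ 2 ^ k
  have hi : orderOf i = 4 := by
    rw [orderOf_pow' x (by positivity), hko, Nat.gcd_eq_right (pow_dvd_pow 2 (by omega)),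
      Nat.pow_div (by omega) two_pos, show k + 1 + 1 - k = 2 by omega]
    rfl
  refine h.sylow_not_cyclic P (h.centralised_cyclic hi P.2 fun b _ => ?_)
  exact mem_center_iff.mp (pow_mem hx _) b

theorem center_eq (h : OneInv X z) : center X = zpowers z := by
  refine le_antisymm (fun x hx => ?_) (zpowers_le.mpr h.z_mem_center)
  rcases h.mem_center_imp hx with rfl | rfl
  · exact one_mem _
  · exact mem_zpowers _

theorem card_center (h : OneInv X z) : Nat.card (center X) = 2 := by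
  rw [h.center_eq, Nat.card_zpowers, h.inv.1]

theorem card_quot (h : OneInv X z) : 2 * Nat.card (X ⧸ center X) = Nat.card X := by
  rw [← h.card_center, mul_comm, ← Subgroup.card_eq_card_quotient_mul_card_subgroup]

theorem quot_noncomm (h : OneInv X z) : ∃ a b : X ⧸ center X, a * b ≠ b * a := by
  by_contra hcon
  push Not at hcon
  haveI := h.qs.1
  have hle : commutator X ≤ center X := by
    rw [commutator_eq_closure, closure_le]
    rintro _ ⟨a, b, rfl⟩
    show ⁅a, b⁆ ∈ center X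
    rw [← QuotientGroup.eq_one_iff, commutatorElement_def]
    simp only [QuotientGroup.mk_mul, QuotientGroup.mk_inv]
    rw [hcon (a : X ⧸ center X) b]
    group
  rw [Group.IsPerfect.commutator_eq_top, top_le_iff] at hle
  obtain ⟨P⟩ : Nonempty (Sylow 2 X) := inferInstance
  have : Nat.card X = 2 := by rw [← Subgroup.card_top, ← hle, h.card_center]
  exact h.sylow_not_cyclic P (by
    haveI : IsCyclic X := isCyclic_of_prime_card (p := 2) this
    exact Subgroup.isCyclic _)

theorem quot_center (h : OneInv X z) : center (X ⧸ center X) = ⊥ := by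
  haveI := h.qs.2
  rcases (inferInstance : (center (X ⧸ center X)).Normal).eq_bot_or_eq_top with e | e
  · exact e
  · obtain ⟨a, b, hab⟩ := h.quot_noncomm
    exact absurd (mem_center_iff.mp (e.ge (mem_top b)) a) hab

theorem quot_core (h : OneInv X z) : pPrimeCore 2 (X ⧸ center X) = ⊥ := by
  haveI := h.qs.2
  haveI hn : (pPrimeCore 2 (X ⧸ center X)).Normal := inferInstance
  rcases hn.eq_bot_or_eq_top with e | e
  · exact e
  exfalso
  obtain ⟨P⟩ : Nonempty (Sylow 2 X) := inferInstance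
  obtain ⟨n, hn1, ⟨eq⟩⟩ := exists_quat P.2 (h.uniqInv_sub (h.z_mem_sylow P)) (h.sylow_not_cyclic P)
  have hle : Nat.card (P : Subgroup X) ∣ 2 := by
    have h1 : (P : Subgroup X).map (QuotientGroup.mk' (center X)) = ⊥ := by
      obtain ⟨k, hk⟩ := IsPGroup.iff_card.mp (P.2.map (QuotientGroup.mk' (center X)))
      have h2 := Subgroup.card_subgroup_dvd_card ((P : Subgroup X).map (QuotientGroup.mk' (center X)))
      have h3 : (Nat.card (X ⧸ center X)).Coprime 2 := by
        rw [← Subgroup.card_top, ← e]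
        exact card_pPrimeCore_coprime 2
      exact eq_bot_of_card_eq _ (Nat.eq_one_of_dvd_coprimes (h3.pow_right k) h2 (dvd_of_eq hk))
    exact (card_dvd_of_le (by rwa [Subgroup.map_eq_bot_iff, QuotientGroup.ker_mk'] at h1)).trans
      (dvd_of_eq h.card_center)
  haveI : NeZero (2 ^ n) := ⟨by positivity⟩
  rw [Nat.card_congr eq.toEquiv, Nat.card_eq_fintype_card, QuaternionGroup.card] at hle
  have := Nat.le_of_dvd two_pos hle
  have : 0 < 2 ^ n := by positivity
  omega

/-- All elements of order four are conjugate. -/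
theorem conj_four (h : OneInv X z) {a b : X} (ha : orderOf a = 4) (hb : orderOf b = 4) :
    ∃ g : X, g * a * g⁻¹ = b := by
  classical
  obtain ⟨P⟩ : Nonempty (Sylow 2 X) := inferInstance
  have hzP := h.z_mem_sylow P
  obtain ⟨n, hn, ⟨e⟩⟩ := exists_quat P.2 (h.uniqInv_sub hzP) (h.sylow_not_cyclic P)
  haveI : NeZero (2 ^ n) := ⟨by positivity⟩
  set g₁ : X := ((e.symm (QuaternionGroup.a 1) : (P : Subgroup X)) : X)
  have hg₁P : g₁ ∈ (P : Subgroup X) := SetLike.coe_mem _
  have hg₁o : orderOf g₁ = 2 * 2 ^ n := by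
    rw [orderOf_coe, MulEquiv.orderOf_eq, QuaternionGroup.orderOf_a_one]
  obtain ⟨m, rfl⟩ : ∃ m, n = m + 1 := ⟨n - 1, by omega⟩
  set i₀ := g₁ ^ 2 ^ m
  have hi₀ : orderOf i₀ = 4 := by
    rw [orderOf_pow' g₁ (by positivity), hg₁o, Nat.gcd_eq_right (Dvd.intro 4 (by ring))]
    exact Nat.div_eq_of_eq_mul_left (by positivity) (by ring)
  have hzC : z ∈ zpowers g₁ := h.four_sq hi₀ ▸ pow_mem (pow_mem (mem_zpowers _) _) 2
  haveI : (zpowers z).Normal := h.center_eq ▸ inferInstance
  set π := QuotientGroup.mk' (zpowers z) with hπ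
  have hπker : π.ker ≤ zpowers g₁ := by
    rw [QuotientGroup.ker_mk']; exact zpowers_le.mpr hzC
  let Pb : Sylow 2 (X ⧸ zpowers z) := P.mapSurjective (QuotientGroup.mk'_surjective _)
  have hCP : zpowers g₁ ≤ (P : Subgroup X) := zpowers_le.mpr hg₁P
  have hidx : (zpowers g₁).relIndex (P : Subgroup X) = 2 := by
    have h1 : (zpowers g₁).relIndex (P : Subgroup X) * Nat.card (zpowers g₁) = Nat.card (P : Subgroup X) := by
      rw [← Nat.card_congr (subgroupOfEquivOfLe hCP).toEquiv]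
      exact Subgroup.index_mul_card _
    rw [Nat.card_zpowers, hg₁o, Nat.card_congr e.toEquiv, Nat.card_eq_fintype_card,
      QuaternionGroup.card, show 4 * 2 ^ (m + 1) = 2 * (2 * 2 ^ (m + 1)) by ring] at h1
    exact mul_right_cancel₀ (by positivity) h1
  have key : ∀ u ∈ (P : Subgroup X), orderOf u = 4 → ∃ g : X, g * u * g⁻¹ = i₀ ∨ g * u * g⁻¹ = i₀⁻¹ := by
    intro u hu huo
    by_cases huC : u ∈ zpowers g₁
    · refine ⟨1, ?_⟩
      simpa using four_eq_or_inv (pow_mem (mem_zpowers g₁) _) huC hi₀ huo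
    have hub : orderOf (π u) = 2 := by
      refine orderOf_eq_prime ?_ fun h1 => huC (hπker (MonoidHom.mem_ker.mpr h1))
      rw [← map_pow, h.four_sq huo]
      exact (QuotientGroup.eq_one_iff _).mpr (mem_zpowers z)
    have hQi : ((zpowers g₁).map π).relIndex (Pb : Subgroup (X ⧸ zpowers z)) = 2 := by
      show ((zpowers g₁).map π).relIndex ((P : Subgroup X).map π) = 2
      rw [Subgroup.relIndex_map_map, sup_eq_left.mpr hπker, sup_eq_left.mpr (hπker.trans hCP), hidx]
    have huP : π u ∈ (Pb : Subgroup (X ⧸ zpowers z)) := mem_map_of_mem π hu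
    have huQ : π u ∉ (zpowers g₁).map π := fun hh => huC (by
      have : u ∈ ((zpowers g₁).map π).comap π := hh
      rwa [comap_map_eq_self hπker] at this)
    rcases Cfsg.Agent.S0111.result Pb _ (map_mono hCP) hQi (π u) hub huP huQ with
      ⟨M, -, hM, -⟩ | ⟨g, hg⟩
    · exact (h.commutator_not_le (M := M.comap π)
        (by rw [index_comap_of_surjective _ (QuotientGroup.mk'_surjective _), hM])).elim
    obtain ⟨g, rfl⟩ := QuotientGroup.mk'_surjective _ g
    have h1 : g * u * g⁻¹ ∈ zpowers g₁ := by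
      rw [← comap_map_eq_self hπker, mem_comap, map_mul, map_mul, map_inv]
      exact hg
    refine ⟨g, four_eq_or_inv (pow_mem (mem_zpowers g₁) _) h1 hi₀ ?_⟩
    rw [show g * u * g⁻¹ = MulAut.conj g u from rfl, MulEquiv.orderOf_eq, huo]
  obtain ⟨q, -, hq⟩ := exists_inverter P.2 (h.uniqInv_sub hzP) (h.sylow_not_cyclic P)
    (i := ⟨i₀, pow_mem hg₁P _⟩) (by rw [orderOf_mk, hi₀])
  have hq' : (q : X) * i₀ * (q : X)⁻¹ = i₀⁻¹ := congrArg Subtype.val hq
  have toI : ∀ c : X, orderOf c = 4 → ∃ g : X, g * c * g⁻¹ = i₀ := by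
    intro c hc
    have hcg : IsPGroup 2 (zpowers c) := IsPGroup.of_card (n := 2) (by rw [Nat.card_zpowers, hc]; rfl)
    obtain ⟨Q, hQ⟩ := hcg.exists_le_sylow
    obtain ⟨w, hw⟩ := MulAction.exists_smul_eq X Q P
    have hcP : w * c * w⁻¹ ∈ (P : Subgroup X) := by
      rw [← hw]
      exact ⟨c, hQ (mem_zpowers c), rfl⟩
    obtain ⟨g, hg | hg⟩ := key _ hcP
      (by rw [show w * c * w⁻¹ = MulAut.conj w c from rfl, MulEquiv.orderOf_eq, hc])
    · exact ⟨g * w, by rw [← hg]; group⟩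
    · refine ⟨(q : X) * g * w, ?_⟩
      calc (q : X) * g * w * c * ((q : X) * g * w)⁻¹
          = (q : X) * (g * (w * c * w⁻¹) * g⁻¹) * (q : X)⁻¹ := by group
        _ = ((q : X) * i₀ * (q : X)⁻¹)⁻¹ := by rw [hg]; group
        _ = i₀ := by rw [hq', inv_inv]
  obtain ⟨g, hg⟩ := toI a ha
  obtain ⟨g', hg'⟩ := toI b hb
  refine ⟨g'⁻¹ * g, ?_⟩
  calc g'⁻¹ * g * a * (g'⁻¹ * g)⁻¹ = g'⁻¹ * (g * a * g⁻¹) * g' := by group
    _ = b := by rw [hg, ← hg']; group

/-- Roots of elements of order four. -/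
theorem exists_root (h : OneInv X z) {X' : Type v} [Group X'] [Finite X'] {z' : X'} (h' : OneInv X' z')
    (hcard : Nat.card X' = Nat.card X) {y : X} {k : ℕ} (hy : orderOf y = 4 * 2 ^ k) {a : X'}
    (ha : orderOf a = 4) : ∃ d : X', orderOf d = 4 * 2 ^ k ∧ d ^ 2 ^ k = a := by
  have hyg : IsPGroup 2 (zpowers y) := IsPGroup.of_card (n := 2 + k) (by
    rw [Nat.card_zpowers, hy, pow_add]; rfl)
  obtain ⟨P, hP⟩ := hyg.exists_le_sylow
  obtain ⟨P'⟩ : Nonempty (Sylow 2 X') := inferInstance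
  have hcP : Nat.card (P' : Subgroup X') = Nat.card (P : Subgroup X) := by
    rw [Sylow.card_eq_multiplicity, Sylow.card_eq_multiplicity, hcard]
  have h2 := two_mul_orderOf_dvd P.2 (h.uniqInv_sub (h.z_mem_sylow P)) (h.sylow_not_cyclic P)
    ⟨y, hP (mem_zpowers y)⟩
  rw [orderOf_mk, hy, ← hcP] at h2
  obtain ⟨⟨x, hxP⟩, hx⟩ := exists_orderOf_eq P'.2 (h'.uniqInv_sub (h'.z_mem_sylow P'))
    (h'.sylow_not_cyclic P') h2
  rw [orderOf_mk] at hx
  obtain ⟨g, hg⟩ := h'.conj_four (a := x ^ 2 ^ k) (b := a) (by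
    rw [orderOf_pow' x (by positivity), hx, Nat.gcd_eq_right (Dvd.intro_left 4 rfl),
      Nat.mul_div_cancel _ (by positivity)]) ha
  refine ⟨g * x * g⁻¹, ?_, ?_⟩
  · rw [show g * x * g⁻¹ = MulAut.conj g x from rfl, MulEquiv.orderOf_eq, hx]
  · rw [conj_pow, hg]

end OneInv

end CfsgLib.TwoCompFour
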